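import Groth.Agent.Lib.EssDimM0.LinePts
import Groth.Agent.Lib.Curves.BaseChange
import Groth.Agent.Lib.Curves.DegreeOne
import Groth.Agent.Lib.Curves.RationalPoint
import Groth.Agent.Lib.CurveFF.Hyp
import Groth.Agent.Lib.GrpSch.SmoothReduced
import Groth.Agent.S6544
import Groth.Prelude.Def_ModFun

/-!
# Smooth curves of genus zero over a field
-/

set_option autoImplicit false
set_option linter.style.haveILetI false
noncomputable section

universe u

open CategoryTheory CategoryTheory.Limits AlgebraicGeometry TopologicalSpace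

namespace Groth.Agent.Lib.EssDimM0.Curve

open Groth.Agent.Lib

/-- Pullback of the projective line along a field extension. -/
def pullIso {k K : Type u} [Field k] [Field K] (φ : k →+* K) {P : Scheme.{u}}
    {p : P ⟶ CohB1.ProjSpace 1 k} {q : P ⟶ Spec (CommRingCat.of K)}
    (h : IsPullback p q (CohB1.ProjSpace.toSpec 1 k) (Spec.map (CommRingCat.ofHom φ))) :
    P ≅ CohB1.ProjSpace 1 K :=
  h.isoIsPullback _ _ (ProjSpace.BaseChange.isPullback_projMap 1 φ)

theorem geometricallyIrreducible_line (k : Type u) [Field k] :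
    GeometricallyIrreducible (CohB1.ProjSpace.toSpec 1 k) := by
  refine ⟨fun K _ y P p q h => ?_⟩
  obtain ⟨φ, rfl⟩ : ∃ φ : k →+* K, y = Spec.map (CommRingCat.ofHom φ) :=
    ⟨(Spec.preimage y).hom, (Spec.map_preimage y).symm⟩
  exact Function.Surjective.irreducibleSpace (pullIso φ h).inv.continuous
    (pullIso φ h).inv.homeomorph.surjective

theorem isCurveOfGenus_line (k : Type u) [Field k] :
    ModFun.IsCurveOfGenus 0 (CohB1.ProjSpace.toSpec 1 k) := by
  refine ⟨inferInstance, inferInstance, geometricallyIrreducible_line k, fun Ω _ _ t X i q h => ?_⟩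
  obtain ⟨φ, rfl⟩ : ∃ φ : k →+* Ω, t = Spec.map (CommRingCat.ofHom φ) :=
    ⟨(Spec.preimage t).hom, (Spec.map_preimage t).symm⟩
  refine ⟨?_, ?_⟩
  · rw [IsHomeomorph.topologicalKrullDim_eq _ (pullIso φ h).hom.homeomorph.isHomeomorph,
      ProjSpace.Dim.topologicalKrullDim_projSpace 1 Ω, ringKrullDim_eq_zero_of_field]
    simp
  · letI : X.Over (Spec (CommRingCat.of Ω)) := ⟨q⟩
    exact (Curves.DegreeOne.h0_genus_of_iso_line (k := Ω) (X := X) (e := pullIso φ h)
      (IsPullback.isoIsPullback_hom_snd _ _ h (ProjSpace.BaseChange.isPullback_projMap 1 φ))).2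

variable (L : Type u) [Field L]

/-- A family over a field is an integral curve of genus `g`. -/
theorem integral_dim_genus {C : Scheme.{u}} [C.Over (Spec (CommRingCat.of L))] (g : ℕ)
    (hC : ModFun.IsCurveOfGenus g (C ↘ Spec (CommRingCat.of L))) :
    IsIntegral C ∧ topologicalKrullDim C = 1 ∧ Curv2.genus L C = g := by
  obtain ⟨h1, h2, h3, h4⟩ := hC
  let f := C ↘ Spec (CommRingCat.of L)
  haveI : Smooth (C ↘ Spec (CommRingCat.of L)) := h1
  haveI : IsProper (C ↘ Spec (CommRingCat.of L)) := h2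
  haveI : GeometricallyIrreducible (C ↘ Spec (CommRingCat.of L)) := h3
  haveI := GrpSch.geometricallyReduced_of_smooth_field f
  haveI hgi : GeometricallyIntegral f :=
    GeometricallyIntegral.of_geometricallyReduced_of_geometricallyIrreducible (f := f)
  haveI : IsIntegral C := GeometricallyIntegral.geometrically_isIntegral (f := f) (𝟙 _) (𝟙 C) f
    (IsPullback.of_horiz_isIso ⟨by simp⟩)
  let Ω := AlgebraicClosure L
  let t := Spec.map (CommRingCat.ofHom (algebraMap L Ω))
  letI : (pullback f t).Over (Spec (CommRingCat.of Ω)) := ⟨pullback.snd f t⟩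
  have h : IsPullback (pullback.fst f t) ((pullback f t) ↘ Spec (CommRingCat.of Ω))
      (C ↘ Spec (CommRingCat.of L)) (Spec.map (CommRingCat.ofHom (algebraMap L Ω))) :=
    IsPullback.of_hasPullback f t
  haveI := Curves.BaseChange.isIntegral h
  obtain ⟨hd, hg⟩ := h4 Ω t (pullback f t) _ _ (IsPullback.of_hasPullback f t)
  refine ⟨inferInstance, ?_, ?_⟩
  · rw [← Curves.BaseChange.topologicalKrullDim_eq h]; exact hd
  · rw [← Curves.BaseChange.genus_eq h]; exact hg

/-- A pointed curve of genus zero is a line. -/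
theorem exists_iso_line {C : Scheme.{u}} (f : C ⟶ Spec (CommRingCat.of L))
    (hC : ModFun.IsCurveOfGenus 0 f) (s : Spec (CommRingCat.of L) ⟶ C) (hs : s ≫ f = 𝟙 _) :
    ∃ e : C ≅ CohB1.ProjSpace 1 L, e.hom ≫ CohB1.ProjSpace.toSpec 1 L = f := by
  letI : C.Over (Spec (CommRingCat.of L)) := ⟨f⟩
  obtain ⟨hint, hd, hg⟩ := integral_dim_genus L 0 hC
  haveI := hint
  haveI : Smooth (C ↘ Spec (CommRingCat.of L)) := hC.1
  haveI : IsProper (C ↘ Spec (CommRingCat.of L)) := hC.2.1
  haveI : GeometricallyIrreducible (C ↘ Spec (CommRingCat.of L)) := hC.2.2.1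
  have hcx := Curves.RationalPoint.isClosed_pt (k := L) s hs
  haveI := (CurveFF.curveHyp_of_smooth L hd).dvr _ hcx
  obtain ⟨M, hM, hdeg⟩ := Curves.DegreeOne.exists_deg_of_point (k := L) hd hcx inferInstance
  rw [Curves.PointIdeal.hdim_quot_point, Curves.RationalPoint.finrank_residueField s hs] at hdeg
  exact Groth.Agent.S6544.result L C hd hg M hM ⟨0, by rw [hdeg]; norm_num⟩

/-- Placing up to two points of a genus zero curve at the origins of the line. -/
theorem exists_iso_line_pts {C : Scheme.{u}} (f : C ⟶ Spec (CommRingCat.of L))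
    (hC : ModFun.IsCurveOfGenus 0 f) (s t : Spec (CommRingCat.of L) ⟶ C) (hs : s ≫ f = 𝟙 _)
    (ht : t ≫ f = 𝟙 _) (hne : s ≠ t) :
    ∃ e : C ≅ CohB1.ProjSpace 1 L, e.hom ≫ CohB1.ProjSpace.toSpec 1 L = f ∧
      s ≫ e.hom = LinePts.origin L 0 ∧ t ≫ e.hom = LinePts.origin L 1 := by
  obtain ⟨e, he⟩ := exists_iso_line L f hC s hs
  obtain ⟨a, ha, h1, h2⟩ := LinePts.exists_aut L (s ≫ e.hom) (t ≫ e.hom)
    (by rw [Category.assoc, he, hs]) (by rw [Category.assoc, he, ht])
    (fun h => hne ((cancel_mono e.hom).1 h))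
  exact ⟨e ≪≫ a, by rw [Iso.trans_hom, Category.assoc, ha, he],
    by rw [Iso.trans_hom, ← Category.assoc, h1], by rw [Iso.trans_hom, ← Category.assoc, h2]⟩

theorem exists_iso_line_pt {C : Scheme.{u}} (f : C ⟶ Spec (CommRingCat.of L))
    (hC : ModFun.IsCurveOfGenus 0 f) (s : Spec (CommRingCat.of L) ⟶ C) (hs : s ≫ f = 𝟙 _) :
    ∃ e : C ≅ CohB1.ProjSpace 1 L, e.hom ≫ CohB1.ProjSpace.toSpec 1 L = f ∧
      s ≫ e.hom = LinePts.origin L 0 := by
  obtain ⟨e, he⟩ := exists_iso_line L f hC s hs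
  have hex : ∃ t : Spec (CommRingCat.of L) ⟶ C, t ≫ f = 𝟙 _ ∧ s ≠ t := by
    have h0 : ∀ i, (LinePts.origin L i ≫ e.inv) ≫ f = 𝟙 _ := fun i => by
      rw [Category.assoc, ← he, e.inv_hom_id_assoc, LinePts.origin_toSpec]
    by_cases h : s = LinePts.origin L 0 ≫ e.inv
    · refine ⟨_, h0 1, fun h' => ?_⟩
      rw [h, cancel_mono] at h'
      exact LinePts.origin_ne L (by rw [h'])
    · exact ⟨_, h0 0, h⟩
  obtain ⟨t, ht, hne⟩ := hex
  obtain ⟨e', he', hs', -⟩ := exists_iso_line_pts L f hC s t hs ht hne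
  exact ⟨e', he', hs'⟩

end Groth.Agent.Lib.EssDimM0.Curve
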