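import Groth.Agent.Lib.EssDimM0.ConicCurve
import Groth.Agent.Lib.ProjSpace.BaseChange
import Groth.Agent.Lib.Ideal.Comap

/-!
# Base change of hypersurfaces along a change of the coefficients
-/

set_option autoImplicit false
set_option linter.style.haveILetI false
noncomputable section

universe u

open CategoryTheory CategoryTheory.Limits AlgebraicGeometry MvPolynomial TopologicalSpace Opposite

namespace Groth.Agent.Lib.EssDimM0.ConicBC

open Groth.Agent.Lib

variable {n d : ℕ} {k K : Type u} [Field k] [Field K] (φ : k →+* K)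

local notation "μ" => ProjSpace.BaseChange.mapHom n φ
local notation "π" => ProjSpace.BaseChange.projMap n φ

theorem preimage_chart (j : Fin (n + 1)) : π ⁻¹ᵁ LefPen.chart n k j = LefPen.chart n K j :=
  (ProjSpace.BaseChange.projMap_preimage_basicOpen n φ _).trans (by rw [MvPolynomial.map_X])

theorem appLE_dehom (F : LefPen.Form n k d) (F' : LefPen.Form n K d)
    (hF : MvPolynomial.map φ F.1 = F'.1) (j : Fin (n + 1)) :
    (π).appLE (LefPen.chart n k j) (LefPen.chart n K j) (preimage_chart φ j).ge (LefPen.dehom F j) =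
      LefPen.dehom F' j := by
  let z : HomogeneousLocalization.Away (CohB1.polyGrading n k) (X j : MvPolynomial (Fin (n + 1)) k) :=
    HomogeneousLocalization.Away.mk (CohB1.polyGrading n k) (LefPen.X_mem n k j) d F.1
      (by rw [smul_eq_mul, mul_one]; exact F.2)
  have h := congr($(Proj.awayToSection_comp_appLE μ
    (ProjSpace.BaseChange.irrelevant_le_map n φ) (LefPen.X_mem n k j)).hom z)
  simp only [CommRingCat.hom_comp, RingHom.comp_apply, CommRingCat.hom_ofHom] at h
  have key : ∀ (t : MvPolynomial (Fin (n + 1)) K) (ht : t ∈ CohB1.polyGrading n K 1)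
      (_ : t = X j) (hle : LefPen.chart n K j ≤ Proj.basicOpen (CohB1.polyGrading n K) t)
      (G : MvPolynomial (Fin (n + 1)) K) (hG : G ∈ CohB1.polyGrading n K (d • 1)) (_ : G = F'.1),
      (CohB1.ProjSpace n K).presheaf.map (homOfLE hle).op
        (Proj.awayToSection (CohB1.polyGrading n K) t
          (HomogeneousLocalization.Away.mk (CohB1.polyGrading n K) ht d G hG)) = LefPen.dehom F' j := by
    rintro t ht rfl hle G hG rfl
    exact (ConcreteCategory.congr_hom ((CohB1.ProjSpace n K).presheaf.map_id _) _).trans rfl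
  have hle : LefPen.chart n K j ≤ Proj.basicOpen (CohB1.polyGrading n K) (μ (X j)) := by
    rw [ProjSpace.BaseChange.mapHom_apply, MvPolynomial.map_X]
  have e : (π).appLE (LefPen.chart n k j) (LefPen.chart n K j) (preimage_chart φ j).ge (LefPen.dehom F j) =
      (CohB1.ProjSpace n K).presheaf.map (homOfLE hle).op
        (Proj.awayToSection (CohB1.polyGrading n K) (μ (X j))
          (HomogeneousLocalization.Away.map μ (X j) z)) := by
    rw [← h, ← ConcreteCategory.comp_apply]
    exact congr($(((π).appLE_map _ _).symm).hom (LefPen.dehom F j))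
  rw [e, HomogeneousLocalization.Away.map_mk]
  exact key _ _ (MvPolynomial.map_X φ j) hle _ _ hF

theorem comap_hypIdeal (F : LefPen.Form n k d) (F' : LefPen.Form n K d)
    (hF : MvPolynomial.map φ F.1 = F'.1) : (LefPen.hypIdeal F).comap π = LefPen.hypIdeal F' := by
  refine Scheme.IdealSheafData.ext_of_iSup_eq_top (fun j => LefPen45.HypSheaf.chartAff K j)
    (ProjSpace.Basic.iSup_basicOpen_X_eq_top n K) fun j => ?_
  rw [Ideal.Comap.ideal_comap π _ (LefPen45.HypSheaf.chartAff k j) (LefPen45.HypSheaf.chartAff K j)
      (preimage_chart φ j).ge, LefPen45.HypSheaf.hypIdeal_chart, LefPen45.HypSheaf.hypIdeal_chart,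
    Ideal.map_span, Set.image_singleton]
  exact congrArg (fun a => Ideal.span {a}) (appLE_dehom φ F F' hF j)

/-- The hypersurface of the transported equation is the pullback. -/
theorem exists_isPullback (F : LefPen.Form n k d) (F' : LefPen.Form n K d)
    (hF : MvPolynomial.map φ F.1 = F'.1) :
    ∃ g : (LefPen.hypIdeal F').subscheme ⟶ (LefPen.hypIdeal F).subscheme,
      IsPullback g ((LefPen.hypIdeal F').subschemeι ≫ CohB1.ProjSpace.toSpec n K)
        ((LefPen.hypIdeal F).subschemeι ≫ CohB1.ProjSpace.toSpec n k)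
        (Spec.map (CommRingCat.ofHom φ)) := by
  rw [← comap_hypIdeal φ F F' hF]
  let I := LefPen.hypIdeal F
  have h : IsPullback ((I.comapIso π).hom ≫ pullback.snd π I.subschemeι) (I.comap π).subschemeι
      I.subschemeι π :=
    ((IsPullback.of_hasPullback π I.subschemeι).flip).of_iso (I.comapIso π).symm (Iso.refl _)
      (Iso.refl _) (Iso.refl _) (by simp only [Iso.symm_hom, Iso.refl_hom, Category.comp_id, Iso.inv_hom_id_assoc]) (by simp) (by simp) (by simp)
  exact ⟨_, h.paste_vert (ProjSpace.BaseChange.isPullback_projMap n φ)⟩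

end Groth.Agent.Lib.EssDimM0.ConicBC
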