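import Groth.Agent.Lib.EssDimM0.ConicField
import Groth.Agent.Lib.PlaneCurve.Sections
import Groth.Agent.Lib.LefPen45.ShortWeierstrass
import Groth.Agent.Lib.CurveFF.Hyp

/-!
# The diagonal conic: smoothness and function field
-/

set_option autoImplicit false
set_option linter.style.haveILetI false
noncomputable section

universe u

open CategoryTheory CategoryTheory.Limits AlgebraicGeometry MvPolynomial
open Groth.Agent.Lib.LefPen45.Chart (dehomJ Coord coords cst coords_surjective)

namespace Groth.Agent.Lib.EssDimM0.Conic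

open Groth.Agent.Lib

attribute [local instance] Curv2.stalkAlgebra

variable {k : Type u} [Field k]

/-- The form `X₀² + b X₁² + c X₂²`. -/
def form (b c : k) : LefPen.Form 2 k 2 :=
  ⟨X 0 ^ 2 + C b * X 1 ^ 2 + C c * X 2 ^ 2, (mem_homogeneousSubmodule 2 _).2
    ((((isHomogeneous_X k (0 : Fin 3)).pow 2).add (((isHomogeneous_X k (1 : Fin 3)).pow 2).C_mul b)).add
      (((isHomogeneous_X k (2 : Fin 3)).pow 2).C_mul c))⟩

theorem form_ne_zero (b c : k) : form b c ≠ 0 := by
  intro h
  have h' := congrArg (fun F : LefPen.Form 2 k 2 => MvPolynomial.eval (Pi.single (0 : Fin 3) (1 : k)) F.1) h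
  simp [form] at h'

theorem insert0 {R : Type*} (a : R) (v : Fin 2 → R) :
    Fin.cons a v = (![a, v 0, v 1] : Fin 3 → R) := funext fun i => by fin_cases i <;> rfl

theorem insert1 {R : Type*} (a : R) (v : Fin 2 → R) :
    Fin.insertNth (1 : Fin 3) a v = (![v 0, a, v 1] : Fin 3 → R) := funext fun i => by fin_cases i <;> rfl

theorem insert2 {R : Type*} (a : R) (v : Fin 2 → R) :
    Fin.insertNth (2 : Fin 3) a v = (![v 0, v 1, a] : Fin 3 → R) := funext fun i => by fin_cases i <;> rfl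

theorem noSingular [CharZero k] {a₀ a₁ a₂ : k} (h₀ : a₀ ≠ 0) (h₁ : a₁ ≠ 0) (h₂ : a₂ ≠ 0)
    (K : Type u) [Field K] [Algebra k K] (v : Fin 2 → K)
    (hv : aeval v (C a₀ + C a₁ * X 0 ^ 2 + C a₂ * X 1 ^ 2 : MvPolynomial (Fin 2) k) = 0) :
    ∃ i, aeval v (pderiv i (C a₀ + C a₁ * X 0 ^ 2 + C a₂ * X 1 ^ 2 : MvPolynomial (Fin 2) k)) ≠ 0 := by
  by_contra h
  simp only [not_exists, not_not] at h
  have e0 := h 0
  have e1 := h 1
  haveI : CharZero K := charZero_of_injective_algebraMap (algebraMap k K).injective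
  simp [pderiv_X, h₁, h₂] at e0 e1
  simp [e0, e1, h₀] at hv

theorem smooth [CharZero k] {b c : k} (hb : b ≠ 0) (hc : c ≠ 0) :
    Smooth (PlaneCurve.emb (form b c) ≫ CohB1.ProjSpace.toSpec 2 k) := by
  rw [LefPen45.ShortWeierstrass.smooth_iff]
  intro j
  refine LefPen45.ShortWeierstrass.formallySmooth_of_noSingular _ fun K _ _ v hv => ?_
  obtain ⟨a₀, a₁, a₂, h₀, h₁, h₂, he⟩ : ∃ a₀ a₁ a₂ : k, a₀ ≠ 0 ∧ a₁ ≠ 0 ∧ a₂ ≠ 0 ∧
      dehomJ k j (form b c).1 = C a₀ + C a₁ * X 0 ^ 2 + C a₂ * X 1 ^ 2 := by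
    fin_cases j
    · exact ⟨1, b, c, one_ne_zero, hb, hc, by simp [form, dehomJ, insert0]⟩
    · exact ⟨b, 1, c, hb, one_ne_zero, hc, by simp [form, dehomJ, insert1]; ring⟩
    · exact ⟨c, 1, b, hc, one_ne_zero, hb, by simp [form, dehomJ, insert2]; ring⟩
  rw [he] at hv ⊢
  exact noSingular h₀ h₁ h₂ K v hv

theorem dehom_zero (b c : k) :
    dehomJ k (0 : Fin 3) (form b c).1 = 1 + C b * X 0 ^ 2 + C c * X 1 ^ 2 := by
  simp [form, dehomJ, insert0]

/-- The kernel of evaluation at a generic point of the conic. -/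
theorem mem_span_of_aeval {K : Type u} [Field K] [Algebra k K] {b c : k} (hc : c ≠ 0) {x y : K}
    (hx : Transcendental k x) (heq : 1 + algebraMap k K b * x ^ 2 + algebraMap k K c * y ^ 2 = 0)
    (hy : y ∉ IntermediateField.adjoin k ({x} : Set K)) (p : MvPolynomial (Fin 2) k)
    (hp : aeval ![x, y] p = 0) : (1 + C b * X 0 ^ 2 + C c * X 1 ^ 2 : MvPolynomial (Fin 2) k) ∣ p := by
  set g : MvPolynomial (Fin 2) k := 1 + C b * X 0 ^ 2 + C c * X 1 ^ 2
  have hg : aeval ![x, y] g = 0 := by simpa [g] using heq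
  let ι : Polynomial k →ₐ[k] MvPolynomial (Fin 2) k := Polynomial.aeval (X 0)
  have key : ∀ q : MvPolynomial (Fin 2) k, ∃ A B : Polynomial k, g ∣ q - (ι A + ι B * X 1) := by
    intro q
    induction q using MvPolynomial.induction_on with
    | C r => exact ⟨Polynomial.C r, 0, by simp [ι]⟩
    | add q r hq hr =>
      obtain ⟨A, B, h⟩ := hq
      obtain ⟨A', B', h'⟩ := hr
      refine ⟨A + A', B + B', ?_⟩
      have := dvd_add h h'
      convert this using 1
      simp only [map_add]; ring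
    | mul_X q i hq =>
      obtain ⟨A, B, t, ht⟩ := hq
      fin_cases i <;> simp only [Fin.zero_eta, Fin.isValue, Fin.mk_one]
      · refine ⟨A * Polynomial.X, B * Polynomial.X, t * X 0, ?_⟩
        simp only [map_mul, ι, Polynomial.aeval_X] at ht ⊢
        linear_combination (X 0 : MvPolynomial (Fin 2) k) * ht
      · refine ⟨-(Polynomial.C c⁻¹ * (1 + Polynomial.C b * Polynomial.X ^ 2) * B), A,
          t * X 1 + ι B * C c⁻¹, ?_⟩
        have hcc : (C c⁻¹ * C c : MvPolynomial (Fin 2) k) = 1 := by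
          rw [← map_mul, inv_mul_cancel₀ hc, map_one]
        simp only [map_mul, map_neg, map_add, map_one, map_pow, ι, Polynomial.aeval_X,
          Polynomial.aeval_C, MvPolynomial.algebraMap_eq] at ht ⊢
        simp only [g] at ht ⊢
        linear_combination (X 1 : MvPolynomial (Fin 2) k) * ht -
          (Polynomial.aeval (X 0 : MvPolynomial (Fin 2) k) B) * (X 1) ^ 2 * hcc
  obtain ⟨A, B, t, ht⟩ := key p
  have hι : ∀ A : Polynomial k, aeval ![x, y] (ι A) = Polynomial.aeval x A := fun A => by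
    rw [← Polynomial.aeval_algHom_apply]; simp
  have h0 : Polynomial.aeval x A + Polynomial.aeval x B * y = 0 := by
    have := congrArg (aeval ![x, y]) ht
    simp only [map_sub, map_mul, map_add, hp, hg, hι, aeval_X, zero_mul, zero_sub, neg_eq_zero] at this
    simpa using this
  have hinj := transcendental_iff_injective.1 hx
  have hB : B = 0 := by
    by_contra hB
    refine hy ((IntermediateField.mem_adjoin_simple_iff k y).2 ⟨-A, B, ?_⟩)
    have hB' : Polynomial.aeval x B ≠ 0 := (map_ne_zero_iff _ hinj).2 hB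
    rw [map_neg, eq_div_iff hB']
    linear_combination h0
  have hA : A = 0 := hinj (by simpa [hB] using h0)
  exact ⟨t, by simpa [hA, hB, ι] using ht⟩

/-- The function field of the conic is the field generated by its coordinates. -/
theorem exists_algEquiv [CharZero k] {b c : k} (hb : b ≠ 0) (hc : c ≠ 0)
    [(PlaneCurve.crv (form b c)).Over (Spec (CommRingCat.of k))]
    (hov : PlaneCurve.crv (form b c) ↘ Spec (CommRingCat.of k) =
      PlaneCurve.emb (form b c) ≫ CohB1.ProjSpace.toSpec 2 k)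
    [IsIntegral (PlaneCurve.crv (form b c))]
    {K : Type u} [Field K] [Algebra k K] {x y : K} (hx : Transcendental k x)
    (heq : 1 + algebraMap k K b * x ^ 2 + algebraMap k K c * y ^ 2 = 0)
    (hy : y ∉ IntermediateField.adjoin k ({x} : Set K))
    (htop : IntermediateField.adjoin k ({x, y} : Set K) = ⊤) :
    Nonempty ((PlaneCurve.crv (form b c)).functionField ≃ₐ[k] K) := by
  haveI := smooth hb hc
  have hd : dehomJ k (0 : Fin 3) (form b c).1 = 1 + C b * X 0 ^ 2 + C c * X 1 ^ 2 := dehom_zero b c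
  let φ : MvPolynomial (Fin 2) k →ₐ[k] K := aeval ![x, y]
  let π := coords k (PlaneCurve.emb (form b c)) (0 : Fin 3)
  have hπ : Function.Surjective π := coords_surjective k (PlaneCurve.emb (form b c)) 0
  have hker : ∀ p, π p = 0 ↔ φ p = 0 := fun p => by
    rw [PlaneCurve.coords_eq_zero_iff, hd]
    refine ⟨fun ⟨t, ht⟩ => ?_, mem_span_of_aeval hc hx heq hy p⟩
    rw [ht, map_mul]
    have : φ (1 + C b * X 0 ^ 2 + C c * X 1 ^ 2) = 0 := by simpa [φ] using heq
    rw [this, zero_mul]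
  have hgen : genericPoint (PlaneCurve.crv (form b c)) ∈ PlaneCurve.Uc (form b c) 0 :=
    PlaneCurve.generic_mem (form b c) le_rfl (form_ne_zero b c) 0
  haveI : Nonempty (PlaneCurve.Uc (form b c) 0) := ⟨⟨_, hgen⟩⟩
  haveI := functionField_isFractionRing_of_isAffineOpen (PlaneCurve.crv (form b c)) (PlaneCurve.Uc (form b c) 0)
    (PlaneCurve.isAffineOpen_Uc (form b c) 0)
  let ψ : Γ(PlaneCurve.crv (form b c), PlaneCurve.Uc (form b c) 0) →+* K :=
    RingHom.liftOfSurjective π.toRingHom hπ ⟨φ.toRingHom, fun p hp => (hker p).1 hp⟩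
  have hψ : ∀ p, ψ (π p) = φ p := fun p => RingHom.liftOfRightInverse_comp_apply _ _ _ _ p
  have hψi : Function.Injective ψ := (injective_iff_map_eq_zero ψ).2 fun a ha => by
    obtain ⟨p, rfl⟩ := hπ a
    exact (hker p).2 ((hψ p).symm.trans ha)
  let Θ : (PlaneCurve.crv (form b c)).functionField →+* K := IsFractionRing.lift hψi
  have hΘ : ∀ p, Θ (PlaneCurve.chartFun (form b c) 0 hgen p) = φ p := fun p =>
    (IsFractionRing.lift_algebraMap hψi (π p)).trans (hψ p)
  have hC : ∀ r : k, Θ (algebraMap k _ r) = algebraMap k K r := fun r => by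
    rw [← PlaneCurve.chartFun_C (form b c) hov 0 hgen r, hΘ]; simp [φ]
  let Θ' : (PlaneCurve.crv (form b c)).functionField →ₐ[k] K := { Θ with commutes' := hC }
  refine ⟨AlgEquiv.ofBijective Θ' ⟨Θ.injective, AlgHom.fieldRange_eq_top.1 (top_le_iff.1 ?_)⟩⟩
  rw [← htop, IntermediateField.adjoin_le_iff]
  rintro z (rfl | rfl)
  · exact ⟨PlaneCurve.chartFun (form b c) 0 hgen (X 0), (hΘ _).trans (by simp [φ])⟩
  · exact ⟨PlaneCurve.chartFun (form b c) 0 hgen (X 1), (hΘ _).trans (by simp [φ])⟩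

end Groth.Agent.Lib.EssDimM0.Conic
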