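import Groth.Agent.Lib.EssDimM0.Curve
import Groth.Prelude.Def_EssDim
import Groth.Prelude.Def_StCurv
import Mathlib.RingTheory.AlgebraicIndependent.Transcendental

/-!
# Descending pointed projective lines
-/

set_option autoImplicit false
set_option linter.style.haveILetI false
noncomputable section

universe u

open CategoryTheory CategoryTheory.Limits AlgebraicGeometry TopologicalSpace

namespace Groth.Agent.Lib.EssDimM0.Descend

open Groth.Agent.Lib

variable (k : Type u) [Field k]

/-- The line with `n ≤ 2` of its origins marked, over a field over `k`. -/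
def lineFam (n : ℕ) (hn : n ≤ 2) (K : Type u) [Field K] [Algebra k K] :
    CurvSt.PtFamObj (Spec (CommRingCat.of k)) n where
  base := SGA7.pt (K := k) K
  C := CohB1.ProjSpace 1 K
  f := CohB1.ProjSpace.toSpec 1 K
  sect i := LinePts.origin K (Fin.castLE hn i)
  sect_f i := LinePts.origin_toSpec K _

theorem lineFam_smooth (n : ℕ) (hn : n ≤ 2) (K : Type u) [Field K] [Algebra k K] :
    CurvSt.IsSmoothPtdFam (lineFam k n hn K).f (lineFam k n hn K).sect 0 := by
  refine ⟨Curve.isCurveOfGenus_line K, fun i j hij c => ?_⟩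
  have hc : c = (default : ↥(Spec (CommRingCat.of K))) := Subsingleton.elim (α := PrimeSpectrum K) _ _
  subst hc
  have hne : Fin.castLE hn i ≠ Fin.castLE hn j := fun h => hij (Fin.castLE_injective hn h)
  show LinePts.origin K (Fin.castLE hn i) default ≠ LinePts.origin K (Fin.castLE hn j) default
  generalize Fin.castLE hn i = a at hne ⊢
  generalize Fin.castLE hn j = b at hne ⊢
  fin_cases a <;> fin_cases b
  · exact absurd rfl hne
  · exact LinePts.origin_ne K
  · exact (LinePts.origin_ne K).symm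
  · exact absurd rfl hne

/-- The object of `M_{0,n}` given by the line. -/
def lineObj (n : ℕ) (hn : n ≤ 2) (K : Type u) [Field K] [Algebra k K] :
    StkCnt.pts (CurvSt.Mgn (Spec (CommRingCat.of k)) 0 n) K :=
  ⟨⟨lineFam k n hn K, lineFam_smooth k n hn K⟩, rfl⟩

theorem pts_descend (n : ℕ) (hn1 : 1 ≤ n) (hn : n ≤ 2) (L : Type u) [Field L] [Algebra k L]
    [FibCat.IsFibGrpd (CurvSt.Mgn (Spec (CommRingCat.of k)) 0 n).p]
    (x : StkCnt.pts (CurvSt.Mgn (Spec (CommRingCat.of k)) 0 n) L) (K : IntermediateField k L) :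
    EssDim.Descends (Gerb.isoClPsh (CurvSt.Mgn (Spec (CommRingCat.of k)) 0 n)) (Quot.mk _ x) K := by
  rw [EssDim.descends_isoCl_iff]
  obtain ⟨⟨⟨base, C, f, sect, hs⟩, hA⟩, h⟩ := x
  have h' : base = SGA7.pt (K := k) L := h
  subst h'
  obtain ⟨hC, hd⟩ := hA
  have key : ∃ e : C ≅ CohB1.ProjSpace 1 L, e.hom ≫ CohB1.ProjSpace.toSpec 1 L = f ∧
      ∀ i, sect i ≫ e.hom = LinePts.origin L (Fin.castLE hn i) := by
    rcases Nat.lt_or_ge n 2 with h2 | h2
    · obtain rfl : n = 1 := by omega
      obtain ⟨e, he, hs'⟩ := Curve.exists_iso_line_pt L f hC (sect 0) (hs 0)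
      refine ⟨e, he, fun i => ?_⟩
      obtain rfl : i = 0 := Subsingleton.elim _ _
      exact hs'
    · obtain rfl : n = 2 := by omega
      obtain ⟨e, he, h0, h1⟩ := Curve.exists_iso_line_pts L f hC (sect 0) (sect 1) (hs 0) (hs 1)
        (fun h => hd 0 1 (by decide) (default : ↥(Spec (CommRingCat.of L))) (congrArg (fun g : Spec (CommRingCat.of L) ⟶ C => g default) h))
      refine ⟨e, he, fun i => ?_⟩
      fin_cases i
      · exact h0
      · exact h1
  obtain ⟨e, he, hsec⟩ := key
  have hsq : IsPullback (e.hom ≫ ProjSpace.BaseChange.projMap 1 (K.val : K →+* L)) f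
      (CohB1.ProjSpace.toSpec 1 K) (Spec.map (CommRingCat.ofHom (K.val : K →+* L))) :=
    (ProjSpace.BaseChange.isPullback_projMap 1 (K.val : K →+* L)).of_iso e.symm (Iso.refl _) (Iso.refl _)
      (Iso.refl _) (by simp) (by simp [← he]) (by simp) (by simp)
  let φ : CurvSt.PtFamObj.Hom ⟨SGA7.pt (K := k) L, C, f, sect, hs⟩ (lineFam k n hn K) :=
    { base := EssDim.resPt K.val
      top := e.hom ≫ ProjSpace.BaseChange.projMap 1 (K.val : K →+* L)
      cart := hsq
      w_sect := fun i => by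
        rw [← Category.assoc, hsec i]
        exact LinePts.origin_projMap K (K.val : K →+* L) _ }
  refine ⟨lineObj k n hn K, ⟨φ⟩, ?_⟩
  refine IsHomLift.of_fac _ _ _ h rfl ?_
  simp [AlgSt.fullSub, CurvSt.PtFam, CurvSt.PtFamObj.forget, φ]
  rfl

theorem edSt_eq_zero (n : ℕ) (hn1 : 1 ≤ n) (hn : n ≤ 2)
    [FibCat.IsFibGrpd (CurvSt.Mgn (Spec (CommRingCat.of k)) 0 n).p] :
    EssDim.edSt (CurvSt.Mgn (Spec (CommRingCat.of k)) 0 n) = 0 := by
  refine le_antisymm ?_ ?_
  · refine iSup_le fun L => iSup_le fun _ => iSup_le fun _ => iSup_le fun ξ => ?_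
    induction ξ using Quot.ind with
    | mk x =>
      have h := EssDim.edAt_le_of_descends (pts_descend k n hn1 hn L x ⊥)
      have h0 : Algebra.trdeg k (⊥ : IntermediateField k L) = 0 := trdeg_eq_zero
      rw [h0, map_zero] at h
      exact WithBot.coe_le_coe.2 h
  · refine le_trans ?_ (EssDim.edAt_le_ed (Quot.mk _ (lineObj k n hn k)))
    exact WithBot.coe_le_coe.2 bot_le

end Groth.Agent.Lib.EssDimM0.Descend
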