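import Groth.Agent.Lib.EssDimM0.ConicIso
import Groth.Agent.Lib.EssDimM0.Descend
import Mathlib.RingTheory.AlgebraicIndependent.TranscendenceBasis
import Mathlib.FieldTheory.IntermediateField.Adjoin.Algebra

/-!
# Curves of genus zero descend to fields of transcendence degree two
-/

set_option autoImplicit false
set_option linter.style.haveILetI false
noncomputable section

universe u

open CategoryTheory CategoryTheory.Limits AlgebraicGeometry TopologicalSpace

namespace Groth.Agent.Lib.EssDimM0.Conic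

open Groth.Agent.Lib

attribute [local instance] Curv2.stalkAlgebra

theorem isCurveOfGenus_descend {K L : Type u} [Field K] [CharZero K] [Field L] [Algebra K L] {b c : K}
    (hb : b ≠ 0) (hc : c ≠ 0) {C : Scheme.{u}} (f : C ⟶ Spec (CommRingCat.of L))
    (hC : ModFun.IsCurveOfGenus 0 f) {g : C ⟶ PlaneCurve.crv (form b c)}
    (h : IsPullback g f (str b c) (Spec.map (CommRingCat.ofHom (algebraMap K L)))) :
    ModFun.IsCurveOfGenus 0 (str b c) := by
  letI : C.Over (Spec (CommRingCat.of L)) := ⟨f⟩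
  letI : (PlaneCurve.crv (form b c)).Over (Spec (CommRingCat.of K)) := ⟨str b c⟩
  obtain ⟨hint, hd, hg⟩ := Curve.integral_dim_genus L 0 hC
  haveI := hint
  haveI := isIntegral hb hc
  haveI hgi := geometricallyIntegral hb hc
  haveI : Smooth (str b c) := smooth hb hc
  haveI : IsProper (str b c) := inferInstance
  haveI : IsProper (PlaneCurve.crv (form b c) ↘ Spec (CommRingCat.of K)) := inferInstanceAs (IsProper (str b c))
  have h' : IsPullback g (C ↘ Spec (CommRingCat.of L))
      (PlaneCurve.crv (form b c) ↘ Spec (CommRingCat.of K))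
      (Spec.map (CommRingCat.ofHom (algebraMap K L))) := h
  have hdY : topologicalKrullDim (PlaneCurve.crv (form b c)) = 1 := by
    rw [← Curves.BaseChange.topologicalKrullDim_eq h']; exact hd
  have hgY : Curv2.genus K (PlaneCurve.crv (form b c)) = 0 := by
    rw [← Curves.BaseChange.genus_eq h']; exact hg
  refine ⟨inferInstance, inferInstance, inferInstance, fun Ω _ _ t X i q hX => ?_⟩
  obtain ⟨φ, rfl⟩ : ∃ φ : K →+* Ω, t = Spec.map (CommRingCat.ofHom φ) :=
    ⟨(Spec.preimage t).hom, (Spec.map_preimage t).symm⟩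
  letI : Algebra K Ω := φ.toAlgebra
  letI : X.Over (Spec (CommRingCat.of Ω)) := ⟨q⟩
  have hX' : IsPullback i (X ↘ Spec (CommRingCat.of Ω))
      (PlaneCurve.crv (form b c) ↘ Spec (CommRingCat.of K))
      (Spec.map (CommRingCat.ofHom (algebraMap K Ω))) := hX
  haveI : GeometricallyIntegral (PlaneCurve.crv (form b c) ↘ Spec (CommRingCat.of K)) := hgi
  haveI := Curves.BaseChange.isIntegral hX'
  exact ⟨(Curves.BaseChange.topologicalKrullDim_eq hX').trans hdY,
    (Curves.BaseChange.genus_eq hX').trans hgY⟩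

theorem trdeg_adjoin_pair_le {k L : Type u} [Field k] [Field L] [Algebra k L] (b c : L) :
    Algebra.trdeg k (IntermediateField.adjoin k ({b, c} : Set L)) ≤ 2 := by
  classical
  set K := IntermediateField.adjoin k ({b, c} : Set L)
  let b' : K := ⟨b, IntermediateField.subset_adjoin k _ (Or.inl rfl)⟩
  let c' : K := ⟨c, IntermediateField.subset_adjoin k _ (Or.inr rfl)⟩
  have himg : (Algebra.adjoin k ({b', c'} : Set K)).map K.val = Algebra.adjoin k ({b, c} : Set L) := by
    rw [AlgHom.map_adjoin]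
    congr 1
    simp [Set.image_pair, b', c']
  haveI : Algebra.IsAlgebraic (Algebra.adjoin k ({b', c'} : Set K)) K := by
    refine ⟨fun z => ?_⟩
    obtain ⟨r, hr, s, hs, hz⟩ := IntermediateField.mem_adjoin_iff_div.1 z.2
    obtain ⟨r', hr', hrr⟩ : r ∈ (Algebra.adjoin k ({b', c'} : Set K)).map K.val := himg.symm ▸ hr
    obtain ⟨s', hs', hss⟩ : s ∈ (Algebra.adjoin k ({b', c'} : Set K)).map K.val := himg.symm ▸ hs
    rcases eq_or_ne s' 0 with h0 | h0
    · have : z = 0 := Subtype.ext (by
        show (z : L) = ((0 : K) : L)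
        rw [hz, ← hss, h0]
        simp)
      exact this ▸ isAlgebraic_zero
    · have hsz : s' * z = r' := Subtype.ext (by
        show (s' : L) * (z : L) = (r' : L)
        have : (s' : L) ≠ 0 := fun e => h0 (Subtype.ext e)
        rw [hz, ← hrr, ← hss]
        exact mul_div_cancel₀ _ this)
      refine ⟨Polynomial.C ⟨s', hs'⟩ * Polynomial.X - Polynomial.C ⟨r', hr'⟩, fun e => ?_, ?_⟩
      · have := congrArg (fun p => Polynomial.coeff p 1) e
        exact h0 (congrArg Subtype.val (by simpa using this))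
      · simp [hsz]
  refine (Algebra.IsAlgebraic.trdeg_le_cardinalMk k ({b', c'} : Set K)).trans ?_
  refine (Cardinal.mk_insert_le).trans ?_
  rw [Cardinal.mk_singleton]
  norm_num

variable (k : Type u) [Field k] [CharZero k]

theorem edSt_le_two [FibCat.IsFibGrpd (CurvSt.Mgn (Spec (CommRingCat.of k)) 0 0).p] :
    EssDim.edSt (CurvSt.Mgn (Spec (CommRingCat.of k)) 0 0) ≠ ⊥ ∧
      EssDim.edSt (CurvSt.Mgn (Spec (CommRingCat.of k)) 0 0) ≤ ((2 : ℕ) : WithBot ℕ∞) := by
  refine ⟨fun h => ?_, iSup_le fun L => iSup_le fun _ => iSup_le fun _ => iSup_le fun ξ => ?_⟩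
  · have := EssDim.edAt_le_ed (P := Gerb.isoClPsh (CurvSt.Mgn (Spec (CommRingCat.of k)) 0 0))
      (Quot.mk _ (Descend.lineObj k 0 (Nat.zero_le 2) k))
    exact WithBot.coe_ne_bot (le_bot_iff.1 (this.trans h.le))
  induction ξ using Quot.ind with
  | mk x =>
    haveI : CharZero L := charZero_of_injective_algebraMap (algebraMap k L).injective
    obtain ⟨⟨⟨base, C, f, sect, hs⟩, hA⟩, h⟩ := x
    have h' : base = SGA7.pt (K := k) L := h
    subst h'
    obtain ⟨hC, -⟩ := hA
    obtain ⟨b, c, hb, hc, e, he⟩ := exists_iso_conic f hC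
    let K : IntermediateField k L := IntermediateField.adjoin k {b, c}
    let b' : K := ⟨b, IntermediateField.subset_adjoin k _ (Or.inl rfl)⟩
    let c' : K := ⟨c, IntermediateField.subset_adjoin k _ (Or.inr rfl)⟩
    have hb' : b' ≠ 0 := fun e0 => hb (congrArg Subtype.val e0)
    have hc' : c' ≠ 0 := fun e0 => hc (congrArg Subtype.val e0)
    haveI : CharZero K := charZero_of_injective_algebraMap (algebraMap k K).injective
    obtain ⟨g, hg⟩ := ConicBC.exists_isPullback (K.val : K →+* L) (form b' c') (form b c)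
      (map_form (K.val : K →+* L) b' c')
    have hsq : IsPullback (e.hom ≫ g) f (str b' c') (Spec.map (CommRingCat.ofHom (K.val : K →+* L))) :=
      hg.of_iso e.symm (Iso.refl _) (Iso.refl _) (Iso.refl _) (by simp) (by simp [← he]) (by simp) (by simp)
    have hY : ModFun.IsCurveOfGenus 0 (str b' c') :=
      isCurveOfGenus_descend (L := L) hb' hc' f hC (g := e.hom ≫ g) hsq
    let A₀ : CurvSt.PtFamObj (Spec (CommRingCat.of k)) 0 :=
      { base := SGA7.pt (K := k) K
        C := PlaneCurve.crv (form b' c')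
        f := str b' c'
        sect := fun i => i.elim0
        sect_f := fun i => i.elim0 }
    let x₀ : StkCnt.pts (CurvSt.Mgn (Spec (CommRingCat.of k)) 0 0) K :=
      ⟨⟨A₀, hY, fun i => i.elim0⟩, rfl⟩
    let φ : CurvSt.PtFamObj.Hom ⟨SGA7.pt (K := k) L, C, f, sect, hs⟩ A₀ :=
      { base := EssDim.resPt K.val
        top := e.hom ≫ g
        cart := hsq
        w_sect := fun i => i.elim0 }
    have hdesc : EssDim.Descends (Gerb.isoClPsh (CurvSt.Mgn (Spec (CommRingCat.of k)) 0 0))
        (Quot.mk _ ⟨⟨⟨SGA7.pt (K := k) L, C, f, sect, hs⟩, ⟨hC, fun i => i.elim0⟩⟩, h⟩) K := by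
      rw [EssDim.descends_isoCl_iff]
      refine ⟨x₀, ⟨φ⟩, IsHomLift.of_fac _ _ _ h rfl ?_⟩
      simp [CurvSt.PtFam, CurvSt.PtFamObj.forget, φ, A₀, x₀]
    refine le_trans (WithBot.coe_le_coe.2 (EssDim.edAt_le_of_descends hdesc)) ?_
    exact WithBot.coe_le_coe.2 ((OrderHomClass.mono Cardinal.toENat (trdeg_adjoin_pair_le b c)).trans_eq
      (map_ofNat _ 2))

end Groth.Agent.Lib.EssDimM0.Conic
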