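import Groth.Agent.Lib.FunFld.SmallGenus
import Groth.Agent.Lib.FunFld.Weil
import Mathlib.LinearAlgebra.QuadraticForm.IsometryEquiv
import Mathlib.Algebra.MvPolynomial.Funext
import Mathlib.FieldTheory.IntermediateField.Adjoin.Algebra
import Mathlib.FieldTheory.RatFunc.AsPolynomial
import Mathlib.Algebra.CharP.Invertible
import Mathlib.Tactic.LinearCombination
import Mathlib.FieldTheory.IsAlgClosed.AlgebraicClosure
import Mathlib.Algebra.Polynomial.RingDivision

/-!
# A function field of genus zero is the field of a diagonal conic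
-/

set_option autoImplicit false
noncomputable section

namespace Groth.Agent.Lib.EssDimM0.ConicField

open Groth.Agent.Lib.FunFld FunFld.Degree FunFld.Bound

universe u v
variable {k : Type u} {K : Type v} [Field k] [Field K] [Algebra k K]

/-- The six monomials of degree two. -/
def mons {R : Type*} [Mul R] (v : Fin 3 → R) : Fin 6 → R :=
  ![v 0 * v 0, v 1 * v 1, v 2 * v 2, v 0 * v 1, v 0 * v 2, v 1 * v 2]

theorem exists_relation (hK : _root_.FunFld.IsFunctionField k K) (hg : _root_.FunFld.genus k K = 0) :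
    ∃ (E : _root_.FunFld.Divisor k K) (v : Fin 3 → K) (c : Fin 6 → k),
      E.deg = 2 ∧ LinearIndependent k v ∧ (∀ i, v i ∈ _root_.FunFld.L E) ∧ c ≠ 0 ∧
      ∑ p, c p • mons v p = 0 := by
  obtain ⟨C, hC⟩ := Weil.exists_isCanonical hK
  have hdC := Weil.deg_canonical hK hC
  rw [hg] at hdC
  set E : _root_.FunFld.Divisor k K := -C with hE
  have hd : E.deg = 2 := by rw [hE, deg_neg, hdC]; norm_num
  have hl : _root_.FunFld.ell E = 3 := by
    have h := Weil.ell_eq_of_deg_ge hK (D := E) (by rw [hg, hd]; norm_num)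
    rw [hg, hd] at h; omega
  have hl2 : _root_.FunFld.ell (E + E) = 5 := by
    have h := Weil.ell_eq_of_deg_ge hK (D := E + E) (by rw [hg, deg_add, hd]; norm_num)
    rw [hg, deg_add, hd] at h; omega
  haveI := finiteDimensional_L hK E
  haveI := finiteDimensional_L hK (E + E)
  let bE := Module.finBasisOfFinrankEq k (_root_.FunFld.L E) hl
  let v : Fin 3 → K := fun i => (bE i : K)
  have hv : LinearIndependent k v := bE.linearIndependent.map' (_root_.FunFld.L E).subtype (Submodule.ker_subtype _)
  have hmem : ∀ i, v i ∈ _root_.FunFld.L E := fun i => (bE i).2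
  have hmul : ∀ i j, v i * v j ∈ _root_.FunFld.L (E + E) := fun i j P => by
    rw [map_mul, Finsupp.add_apply, WithZero.exp_add]
    exact mul_le_mul' (hmem i P) (hmem j P)
  have hmons : ∀ p, mons v p ∈ _root_.FunFld.L (E + E) := fun p => by fin_cases p <;> exact hmul _ _
  let g : Fin 6 → _root_.FunFld.L (E + E) := fun p => ⟨mons v p, hmons p⟩
  have hdep : ¬ LinearIndependent k g := fun h => by
    have := h.fintype_card_le_finrank
    rw [Fintype.card_fin] at this
    exact absurd (this.trans_eq hl2) (by omega)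
  obtain ⟨c, hc, p, hp⟩ := Fintype.not_linearIndependent_iff.1 hdep
  refine ⟨E, v, c, hd, hv, hmem, fun h => hp (congrFun h p), ?_⟩
  simpa [g] using congrArg Subtype.val hc

/-- Diagonalisation of the relation. -/
theorem exists_diagonal [CharZero k] (hK : _root_.FunFld.IsFunctionField k K) (hg : _root_.FunFld.genus k K = 0) :
    ∃ (E : _root_.FunFld.Divisor k K) (z : Fin 3 → K) (w : Fin 3 → k),
      E.deg = 2 ∧ LinearIndependent k z ∧ (∀ i, z i ∈ _root_.FunFld.L E) ∧ (∃ i, w i ≠ 0) ∧
      ∑ i, w i • (z i * z i) = 0 := by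
  obtain ⟨E, v, c, hd, hv, hmem, hc, hrel⟩ := exists_relation hK hg
  let Q : QuadraticForm k (Fin 3 → k) :=
    c 0 • QuadraticMap.proj 0 0 + c 1 • QuadraticMap.proj 1 1 + c 2 • QuadraticMap.proj 2 2 +
      c 3 • QuadraticMap.proj 0 1 + c 4 • QuadraticMap.proj 0 2 + c 5 • QuadraticMap.proj 1 2
  have hQ : ∀ a : Fin 3 → k, Q a = c 0 * (a 0 * a 0) + c 1 * (a 1 * a 1) + c 2 * (a 2 * a 2) +
      c 3 * (a 0 * a 1) + c 4 * (a 0 * a 2) + c 5 * (a 1 * a 2) := fun a => by simp [Q]
  haveI : Invertible (2 : k) := invertibleOfNonzero two_ne_zero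
  obtain ⟨w', ⟨iso⟩⟩ := QuadraticForm.equivalent_weightedSumSquares Q
  have hr : Module.finrank k (Fin 3 → k) = 3 := Module.finrank_fin_fun k
  let w : Fin 3 → k := fun i => w' (Fin.cast hr.symm i)
  let e : (Fin 3 → k) ≃ₗ[k] (Fin 3 → k) :=
    iso.toLinearEquiv.trans (LinearEquiv.funCongrLeft k k (finCongr hr.symm))
  have he : Function.Surjective e := e.surjective
  have hQw : ∀ a, Q a = ∑ i, w i * (e a i * e a i) := fun a => by
    rw [← iso.map_app a, QuadraticMap.weightedSumSquares_apply]
    exact (Fintype.sum_equiv (finCongr hr.symm) _ _ fun i => rfl).symm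
  let N : Fin 3 → Fin 3 → k := fun i m => e (Pi.single m 1) i
  have hea : ∀ a i, e a i = ∑ m, a m * N i m := fun a i => by
    conv_lhs => rw [pi_eq_sum_univ' a, map_sum]
    simp [N, Finset.sum_apply, map_smul]
  have hw0 : ∃ i, w i ≠ 0 := by
    by_contra hall
    simp only [not_exists, not_not] at hall
    refine hc (funext fun p => ?_)
    have hz : ∀ a, Q a = 0 := fun a => by rw [hQw]; simp [hall]
    have e0 := hz (Pi.single 0 1); have e1 := hz (Pi.single 1 1); have e2 := hz (Pi.single 2 1)
    have e3 := hz ![1, 1, 0]; have e4 := hz ![1, 0, 1]; have e5 := hz ![0, 1, 1]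
    simp [hQ] at e0 e1 e2
    simp [hQ, e0, e1, e2] at e3 e4 e5
    fin_cases p <;> assumption
  haveI : Infinite k := Infinite.of_injective (Nat.cast : ℕ → k) Nat.cast_injective
  let Λ : Fin 3 → MvPolynomial (Fin 3) k := fun i => ∑ m, MvPolynomial.C (N i m) * MvPolynomial.X m
  have hpoly : ∑ p, MvPolynomial.C (c p) * mons (fun m => (MvPolynomial.X m : MvPolynomial (Fin 3) k)) p =
      ∑ i, MvPolynomial.C (w i) * (Λ i * Λ i) := by
    refine MvPolynomial.funext fun a => ?_
    have hΛ : ∀ i, MvPolynomial.eval a (Λ i) = e a i := fun i => by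
      rw [hea]; simp [Λ, mul_comm]
    simp only [map_sum, map_mul, MvPolynomial.eval_C, hΛ]
    rw [← hQw, hQ]
    simp [Fin.sum_univ_six, mons]
  let z : Fin 3 → K := fun i => ∑ m, N i m • v m
  have hrel' : ∑ i, w i • (z i * z i) = 0 := by
    have h := congrArg (MvPolynomial.aeval v) hpoly
    have hl : MvPolynomial.aeval v (∑ p, MvPolynomial.C (c p) * mons (fun m => (MvPolynomial.X m : MvPolynomial (Fin 3) k)) p) = 0 := by
      rw [← hrel]
      simp [Fin.sum_univ_six, mons, Algebra.smul_def]
    rw [hl] at h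
    rw [h]
    simp [Λ, z, Algebra.smul_def]
  refine ⟨E, z, w, hd, ?_, fun i => Submodule.sum_mem _ fun m _ => Submodule.smul_mem _ _ (hmem m), hw0, hrel'⟩
  refine Fintype.linearIndependent_iff.2 fun g hgz => ?_
  have h1 : ∀ m, ∑ i, g i * N i m = 0 := by
    refine Fintype.linearIndependent_iff.1 hv (fun m => ∑ i, g i * N i m) ?_
    rw [← hgz]
    simp only [z, Finset.smul_sum, Finset.sum_smul, mul_smul]
    exact Finset.sum_comm
  intro i
  obtain ⟨a, ha⟩ := he (Pi.single i 1)
  calc g i = ∑ j, g j * e a j := by simp [ha, Pi.single_apply]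
    _ = ∑ m, a m * ∑ j, g j * N j m := by
      simp only [hea, Finset.mul_sum]
      rw [Finset.sum_comm]
      exact Finset.sum_congr rfl fun m _ => Finset.sum_congr rfl fun j _ => mul_left_comm _ _ _
    _ = 0 := by simp [h1]

open Polynomial in
theorem not_square [CharZero k] {b c : k} (hb : b ≠ 0) (hc : c ≠ 0) {p q : k[X]} (hq : q ≠ 0) :
    (1 + C b * X ^ 2) * q ^ 2 + C c * p ^ 2 ≠ 0 := by
  intro h
  classical
  let A := AlgebraicClosure k
  let f := algebraMap k A
  have hfb : f b ≠ 0 := (map_ne_zero f).2 hb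
  have hfc : f c ≠ 0 := (map_ne_zero f).2 hc
  obtain ⟨α, hα⟩ := IsAlgClosed.exists_pow_nat_eq (-(f b)⁻¹) (n := 2) (by norm_num)
  have hα0 : α ≠ 0 := fun h0 => by rw [h0] at hα; simp [hfb] at hα
  have h' := congrArg (Polynomial.map f) h
  simp only [Polynomial.map_add, Polynomial.map_mul, Polynomial.map_pow, Polynomial.map_one,
    Polynomial.map_C, Polynomial.map_X, Polynomial.map_zero] at h'
  set P := p.map f
  set Q := q.map f
  have hQ : Q ≠ 0 := (Polynomial.map_ne_zero_iff f.injective).2 hq
  have hfac : (1 + C (f b) * X ^ 2 : A[X]) = C (f b) * ((X - C α) * (X - C (-α))) := by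
    have : (X - C α) * (X - C (-α)) = X ^ 2 - C (α ^ 2) := by rw [map_neg, map_pow]; ring
    rw [this, hα, map_neg, sub_neg_eq_add, mul_add, ← map_mul, mul_inv_cancel₀ hfb, map_one]
    ring
  have heq : C (f c) * P ^ 2 = -(C (f b) * ((X - C α) * (X - C (-α))) * Q ^ 2) := by
    rw [← hfac]; linear_combination h'
  have hL : C (f b) * ((X - C α) * (X - C (-α))) ≠ 0 :=
    mul_ne_zero (C_ne_zero.2 hfb) (mul_ne_zero (X_sub_C_ne_zero _) (X_sub_C_ne_zero _))
  have hR0 : C (f b) * ((X - C α) * (X - C (-α))) * Q ^ 2 ≠ 0 := mul_ne_zero hL (pow_ne_zero _ hQ)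
  have hP : P ^ 2 ≠ 0 := fun h0 => hR0 (neg_eq_zero.1 (by rw [← heq, h0, mul_zero]))
  have hne : α ≠ -α := fun e => hα0 (self_eq_neg.1 e)
  have e := congrArg (rootMultiplicity α) heq
  rw [← neg_mul, rootMultiplicity_mul (mul_ne_zero (C_ne_zero.2 hfc) hP), rootMultiplicity_C,
    neg_mul, ← mul_neg, rootMultiplicity_mul (by rwa [mul_neg, neg_ne_zero]),
    rootMultiplicity_mul hL, rootMultiplicity_C,
    rootMultiplicity_mul (mul_ne_zero (X_sub_C_ne_zero _) (X_sub_C_ne_zero _)),
    rootMultiplicity_X_sub_C_self, rootMultiplicity_X_sub_C, if_neg hne] at e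
  have hneg : rootMultiplicity α (-(Q ^ 2)) = rootMultiplicity α (Q ^ 2) := by
    rw [← neg_one_mul, ← C_1, ← C_neg, rootMultiplicity_mul (mul_ne_zero (by simp) (pow_ne_zero _ hQ)),
      rootMultiplicity_C, zero_add]
  rw [hneg, pow_two, pow_two, rootMultiplicity_mul (by rwa [← pow_two]),
    rootMultiplicity_mul (mul_ne_zero hQ hQ)] at e
  omega

/-- A genus zero function field is generated by the coordinates of a diagonal conic. -/
theorem exists_conic [CharZero k] (hK : _root_.FunFld.IsFunctionField k K) (hg : _root_.FunFld.genus k K = 0) :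
    ∃ (b c : k) (x y : K), b ≠ 0 ∧ c ≠ 0 ∧ Transcendental k x ∧
      1 + algebraMap k K b * x ^ 2 + algebraMap k K c * y ^ 2 = 0 ∧
      y ∉ IntermediateField.adjoin k ({x} : Set K) ∧
      IntermediateField.adjoin k ({x, y} : Set K) = ⊤ := by
  obtain ⟨E, z, w, hd, hz, hmem, ⟨i₀, hi₀⟩, hrel⟩ := exists_diagonal hK hg
  -- no coefficient vanishes
  have key : ∀ i j l : Fin 3, i ≠ j → i ≠ l → j ≠ l → w i = 0 → w l = 0 := by
    intro i j l hij hil hjl hi
    by_contra hl
    have hsum : w j • (z j * z j) + w l • (z l * z l) = 0 := by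
      rw [← hrel]
      have huniv : (Finset.univ : Finset (Fin 3)) = {i, j, l} := by
        have : ∀ i j l : Fin 3, i ≠ j → i ≠ l → j ≠ l → (Finset.univ : Finset (Fin 3)) = {i, j, l} := by
          decide
        exact this i j l hij hil hjl
      rw [huniv, Finset.sum_insert (by simp [hij, hil]), Finset.sum_pair hjl, hi, zero_smul, zero_add]
    have hzj : z j ≠ 0 := hz.ne_zero j
    rw [Algebra.smul_def, Algebra.smul_def] at hsum
    have hrr : algebraMap k K (w l) * (z l / z j) ^ 2 + algebraMap k K (w j) = 0 := by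
      field_simp
      linear_combination hsum
    have halg : IsAlgebraic k (z l / z j) :=
      ⟨Polynomial.C (w l) * Polynomial.X ^ 2 + Polynomial.C (w j), fun h => hl (by
        have := congrArg (fun p => Polynomial.coeff p 2) h
        simpa using this), by simpa using hrr⟩
    obtain ⟨r, hr⟩ := hK.2 _ halg
    have hzl : z l = r • z j := by
      rw [Algebra.smul_def, hr]; field_simp
    have h2 : LinearIndependent k ![z j, z l] := by
      have := hz.comp ![j, l] (by intro a b; fin_cases a <;> fin_cases b <;> simp [hjl, hjl.symm])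
      convert this using 1
      ext a; fin_cases a <;> rfl
    exact (LinearIndependent.pair_iff' hzj).1 h2 r hzl.symm
  have hw : ∀ i, w i ≠ 0 := by
    intro i hi
    apply hi₀
    rcases eq_or_ne i₀ i with rfl | hne
    · exact hi
    · have : ∀ i i₀ : Fin 3, ∃ j, i ≠ j ∧ j ≠ i₀ := by decide
      obtain ⟨j, hij, hj0⟩ := this i i₀
      exact key i j i₀ hij hne.symm hj0 hi
  have hz0 : z 0 ≠ 0 := hz.ne_zero 0
  refine ⟨w 1 / w 0, w 2 / w 0, z 1 / z 0, z 2 / z 0, div_ne_zero (hw 1) (hw 0),
    div_ne_zero (hw 2) (hw 0), ?_⟩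
  set b := w 1 / w 0
  set c := w 2 / w 0
  set x := z 1 / z 0
  set y := z 2 / z 0
  have hb : b ≠ 0 := div_ne_zero (hw 1) (hw 0)
  have hc : c ≠ 0 := div_ne_zero (hw 2) (hw 0)
  have hw0' : algebraMap k K (w 0) ≠ 0 := (map_ne_zero _).2 (hw 0)
  have heq : 1 + algebraMap k K b * x ^ 2 + algebraMap k K c * y ^ 2 = 0 := by
    simp only [Fin.sum_univ_three, Algebra.smul_def] at hrel
    simp only [b, c, x, y, map_div₀]
    field_simp
    linear_combination hrel
  have hxt : Transcendental k x := fun halg => by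
    obtain ⟨r, hr⟩ := hK.2 _ halg
    have : z 1 = r • z 0 := by rw [Algebra.smul_def, hr]; simp [x, hz0]
    have h2 : LinearIndependent k ![z 0, z 1] := by
      have := hz.comp ![(0 : Fin 3), 1] (by decide)
      convert this using 1
      ext a; fin_cases a <;> rfl
    exact (LinearIndependent.pair_iff' hz0).1 h2 r this.symm
  refine ⟨hxt, heq, ?_⟩
  have hy : y ∉ IntermediateField.adjoin k ({x} : Set K) := by
    intro hy
    obtain ⟨p, q, hpq⟩ := (IntermediateField.mem_adjoin_simple_iff k y).1 hy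
    have hy0 : Polynomial.aeval x q ≠ 0 := fun h => by
      rw [h, div_zero] at hpq
      rw [hpq] at heq
      have : IsAlgebraic k x := ⟨Polynomial.C b * Polynomial.X ^ 2 + 1, fun h => hb (by
        have := congrArg (fun p => Polynomial.coeff p 2) h
        simpa [Polynomial.coeff_one] using this), by
          simp only [map_add, map_mul, map_pow, Polynomial.aeval_C, Polynomial.aeval_X, map_one]
          linear_combination heq⟩
      exact hxt this
    have hq : q ≠ 0 := fun h => hy0 (by rw [h, map_zero])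
    exact not_square hb hc hq (p := p) (transcendental_iff_injective.1 hxt (by
      simp only [map_add, map_mul, map_pow, map_one, Polynomial.aeval_C, Polynomial.aeval_X, map_zero]
      rw [hpq] at heq
      field_simp at heq
      linear_combination heq))
  refine ⟨hy, ?_⟩
  -- the degree over `k(x)` is at most two
  let E' := E + _root_.FunFld.div k (z 0)
  have hE' : 0 ≤ E' := by
    have h := ((mem_L_iff_div hK).1 (hmem 0)).resolve_left hz0
    exact h.trans_eq (add_comm _ _)
  have hz1 : z 1 ≠ 0 := hz.ne_zero 1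
  have hxE : poleDiv (k := k) x ≤ E' := by
    have h := ((mem_L_iff_div hK).1 (hmem 1)).resolve_left hz1
    have hx0 : x ≠ 0 := div_ne_zero hz1 hz0
    have hmul : _root_.FunFld.div k (z 1) = _root_.FunFld.div k x + _root_.FunFld.div k (z 0) := by
      rw [← div_mul hK hx0 hz0]; simp [x, hz0]
    rw [hmul, add_assoc, add_comm (_root_.FunFld.div k (z 0)) E] at h
    intro P
    have h1 : (0 : ℤ) ≤ _root_.FunFld.div k x P + E' P := h P
    have h2 : (0 : ℤ) ≤ E' P := hE' P
    rw [poleDiv_apply hK, ← neg_le_iff_add_nonneg] at *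
    rw [div_apply hK] at h1
    exact max_le (by omega) (by omega)
  have hdeg := deg_mono hxE
  rw [deg_poleDiv hK hxt, deg_add, hd, deg_div hK, add_zero] at hdeg
  set F₁ := IntermediateField.adjoin k ({x} : Set K) with hF₁
  haveI := finiteDimensional_adjoin_transcendental hK hxt
  have h2 : Module.finrank F₁ K ≤ 2 := by exact_mod_cast hdeg
  let F₂ : IntermediateField F₁ K := IntermediateField.adjoin F₁ {y}
  have h3 : 2 ≤ Module.finrank F₁ F₂ := by
    by_contra h
    have h1 : Module.finrank F₁ F₂ = 1 := by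
      have := Module.finrank_pos (R := F₁) (M := F₂); omega
    rw [IntermediateField.finrank_adjoin_simple_eq_one_iff, IntermediateField.mem_bot] at h1
    obtain ⟨a, ha⟩ := h1
    exact hy (ha ▸ a.2)
  have h4 : F₂ = ⊤ := IntermediateField.finrank_eq_one_iff_eq_top.1 (by
    have hm := Module.finrank_mul_finrank F₁ F₂ K
    have hp := Module.finrank_pos (R := F₂) (M := K)
    nlinarith)
  have := congrArg (IntermediateField.restrictScalars k) h4
  rw [IntermediateField.adjoin_simple_adjoin_simple, IntermediateField.restrictScalars_top] at this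
  exact this

end Groth.Agent.Lib.EssDimM0.ConicField
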