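import Groth.Agent.Lib.EssDimM0.ConicBC
import Groth.Agent.Lib.EssDimM0.Curve
import Groth.Agent.Lib.CurveFF.MapOfField
import Groth.Agent.Lib.CurveFF.Consts
import Groth.Agent.Lib.CurveFF.Genus
import Groth.Agent.Lib.SchTopo.Basic
import Groth.Agent.H2.Rigid.GeomIrred

/-!
# A smooth curve of genus zero is a diagonal conic
-/

set_option autoImplicit false
set_option linter.style.haveILetI false
noncomputable section

universe u

open CategoryTheory CategoryTheory.Limits AlgebraicGeometry MvPolynomial TopologicalSpace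
open Groth.Agent.Lib.LefPen45.Chart (dehomJ coords)

namespace Groth.Agent.Lib.EssDimM0.Conic

open Groth.Agent.Lib

attribute [local instance] Curv2.stalkAlgebra

variable {k : Type u} [Field k] [CharZero k]

/-- The structure map of the conic. -/
abbrev str (b c : k) : PlaneCurve.crv (form b c) ⟶ Spec (CommRingCat.of k) :=
  PlaneCurve.emb (form b c) ≫ CohB1.ProjSpace.toSpec 2 k

theorem isIntegral {b c : k} (hb : b ≠ 0) (hc : c ≠ 0) : IsIntegral (PlaneCurve.crv (form b c)) :=
  haveI := smooth hb hc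
  PlaneCurve.isIntegral (form b c) le_rfl (form_ne_zero b c)

theorem map_form {K : Type u} [Field K] (φ : k →+* K) (b c : k) :
    MvPolynomial.map φ (form b c).1 = (form (φ b) (φ c)).1 := by
  simp [form]

theorem geometricallyIntegral {b c : k} (hb : b ≠ 0) (hc : c ≠ 0) :
    GeometricallyIntegral (str b c) := by
  refine ⟨fun K _ y P p q hP => ?_⟩
  obtain ⟨φ, rfl⟩ : ∃ φ : k →+* K, y = Spec.map (CommRingCat.ofHom φ) :=
    ⟨(Spec.preimage y).hom, (Spec.map_preimage y).symm⟩
  haveI : CharZero K := charZero_of_injective_ringHom φ.injective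
  obtain ⟨g, hg⟩ := ConicBC.exists_isPullback φ (form b c) (form (φ b) (φ c)) (map_form φ b c)
  haveI := isIntegral ((map_ne_zero φ).2 hb) ((map_ne_zero φ).2 hc)
  haveI : Nonempty P := ⟨(hP.isoIsPullback _ _ hg).inv (Classical.arbitrary _)⟩
  exact isIntegral_of_isOpenImmersion (hP.isoIsPullback _ _ hg).hom

theorem nontrivial {b c : k} (hb : b ≠ 0) (hc : c ≠ 0) [IsIntegral (PlaneCurve.crv (form b c))] :
    ∃ z : PlaneCurve.crv (form b c), ¬ genericPoint (PlaneCurve.crv (form b c)) = z := by
  haveI := smooth hb hc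
  letI : (PlaneCurve.crv (form b c)).Over (Spec (CommRingCat.of k)) := ⟨str b c⟩
  by_contra hall
  simp only [not_exists, not_not] at hall
  have hgen := PlaneCurve.generic_mem (form b c) le_rfl (form_ne_zero b c) 1
  let u := coords k (PlaneCurve.emb (form b c)) (1 : Fin 3) (X 0)
  obtain ⟨v, hv⟩ := IsAlgClosed.exists_pow_nat_eq
    (-(algebraMap k (AlgebraicClosure k) b) / algebraMap k (AlgebraicClosure k) c) (n := 2) (by norm_num)
  have hd : dehomJ k (1 : Fin 3) (form b c).1 = C b + X 0 ^ 2 + C c * X 1 ^ 2 := by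
    simp [form, dehomJ, insert1]; ring
  have hev : aeval ![0, v] (dehomJ k (1 : Fin 3) (form b c).1) = (0 : AlgebraicClosure k) := by
    have hc' : algebraMap k (AlgebraicClosure k) c ≠ 0 := (map_ne_zero _).2 hc
    simp [hd, hv]; field_simp; ring
  have hu0 : u ≠ 0 := fun h => by
    obtain ⟨t, ht⟩ := (PlaneCurve.coords_eq_zero_iff (form b c) 1 (X 0)).1 h
    obtain ⟨w, hw⟩ := IsAlgClosed.exists_pow_nat_eq
      (-((algebraMap k (AlgebraicClosure k) b) + 1) / algebraMap k (AlgebraicClosure k) c) (n := 2) (by norm_num)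
    have h1 : aeval ![1, w] (dehomJ k (1 : Fin 3) (form b c).1) = (0 : AlgebraicClosure k) := by
      have hc' : algebraMap k (AlgebraicClosure k) c ≠ 0 := (map_ne_zero _).2 hc
      simp [hd, hw]; field_simp; ring
    have := congrArg (aeval ![(1 : AlgebraicClosure k), w]) ht
    rw [map_mul, h1, zero_mul] at this
    simp at this
  have hunit : IsUnit u := by
    refine RingedSpace.isUnit_of_isUnit_germ
      (PlaneCurve.crv (form b c)).toLocallyRingedSpace.toRingedSpace _ u fun z hz => ?_
    obtain rfl := hall z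
    exact IsUnit.mk0 (G₀ := (PlaneCurve.crv (form b c)).functionField) _
      fun h => hu0 ((map_eq_zero_iff _ (germ_injective_of_isIntegral _ _ hgen)).1 h)
  obtain ⟨r, hr⟩ := isUnit_iff_exists_inv.1 hunit
  obtain ⟨p, rfl⟩ := LefPen45.Chart.coords_surjective k (PlaneCurve.emb (form b c)) (1 : Fin 3) r
  have h0 : coords k (PlaneCurve.emb (form b c)) (1 : Fin 3) (X 0 * p - 1) = 0 := by
    rw [map_sub, map_mul, map_one]
    exact sub_eq_zero.2 hr
  obtain ⟨t, ht⟩ := (PlaneCurve.coords_eq_zero_iff (form b c) 1 _).1 h0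
  have := congrArg (aeval ![(0 : AlgebraicClosure k), v]) ht
  rw [map_mul, hev, zero_mul] at this
  simp at this

/-- A smooth curve of genus zero is a diagonal conic. -/
theorem exists_iso_conic {C : Scheme.{u}} (f : C ⟶ Spec (CommRingCat.of k))
    (hC : ModFun.IsCurveOfGenus 0 f) :
    ∃ (b c : k), b ≠ 0 ∧ c ≠ 0 ∧ ∃ e : C ≅ PlaneCurve.crv (form b c), e.hom ≫ str b c = f := by
  letI : C.Over (Spec (CommRingCat.of k)) := ⟨f⟩
  obtain ⟨hint, hd, hg⟩ := Curve.integral_dim_genus k 0 hC
  haveI := hint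
  haveI : Smooth (C ↘ Spec (CommRingCat.of k)) := hC.1
  haveI : IsProper (C ↘ Spec (CommRingCat.of k)) := hC.2.1
  haveI : GeometricallyIrreducible (C ↘ Spec (CommRingCat.of k)) := hC.2.2.1
  haveI := H2.Rigid.GeomIrred.geometricallyConnected (C ↘ Spec (CommRingCat.of k))
  have h0 := CurveFF.finrank_h0_eq_one k C
  have h := CurveFF.curveHyp_of_smooth k hd
  have hK := CurveFF.isFunctionField (k := k) h h0
  have hgF : _root_.FunFld.genus k C.functionField = 0 := (CurveFF.genus_eq h h0).symm.trans hg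
  obtain ⟨b, c, x, y, hb, hc, hx, heq, hy, htop⟩ := ConicField.exists_conic hK hgF
  refine ⟨b, c, hb, hc, ?_⟩
  letI : (PlaneCurve.crv (form b c)).Over (Spec (CommRingCat.of k)) := ⟨str b c⟩
  haveI := isIntegral hb hc
  obtain ⟨θ⟩ := exists_algEquiv hb hc rfl hx heq hy htop
  haveI : IsProper (PlaneCurve.crv (form b c) ↘ Spec (CommRingCat.of k)) :=
    inferInstanceAs (IsProper (str b c))
  haveI : Smooth (PlaneCurve.crv (form b c) ↘ Spec (CommRingCat.of k)) := smooth hb hc
  obtain ⟨m, hm, he, -⟩ := CurveFF.MapOfField.exists_hom h θ.toAlgHom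
  haveI : IsProper m := by
    haveI : IsProper (m ≫ (PlaneCurve.crv (form b c) ↘ Spec (CommRingCat.of k))) := by
      rw [hm]; infer_instance
    exact IsProper.of_comp m (PlaneCurve.crv (form b c) ↘ Spec (CommRingCat.of k))
  have hsurj : Function.Surjective m := fun z => by
    have hcl : IsClosed (Set.range m) := m.isClosedMap.isClosed_range
    exact ((genericPoint_specializes z).mem_closed hcl ⟨_, he⟩)
  have hdY : topologicalKrullDim (PlaneCurve.crv (form b c)) = 1 := by
    refine le_antisymm ((SchTopo.Basic.topologicalKrullDim_le_of_specializingMap m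
      m.isClosedMap.specializingMap hsurj).trans hd.le) ?_
    rw [SchTopo.Basic.topologicalKrullDim_eq_krullDim_scheme]
    obtain ⟨z, hz⟩ := nontrivial hb hc
    exact Order.one_le_krullDim_iff.2 (⟨z, genericPoint _,
      lt_of_le_not_ge (genericPoint_specializes z) fun h' =>
        hz (((genericPoint_specializes z).antisymm h').eq)⟩)
  obtain ⟨i, hi, -⟩ := CurveFF.MapOfField.exists_iso h (CurveFF.curveHyp_of_smooth k hdY) θ
  exact ⟨i, hi⟩

end Groth.Agent.Lib.EssDimM0.Conic
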