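import Groth.Agent.Lib.ProjSub.DisjointUnion
import Groth.Agent.Lib.ProjSpace.BaseChange
import Groth.Agent.H75.RedKer
import Mathlib.LinearAlgebra.Matrix.NonsingularInverse

/-!
# Rational points of the projective line and linear changes of coordinates
-/

set_option autoImplicit false
set_option linter.style.haveILetI false
noncomputable section

universe u

open CategoryTheory CategoryTheory.Limits AlgebraicGeometry TopologicalSpace MvPolynomial
open scoped HomogeneousIdeal

namespace Groth.Agent.Lib.EssDimM0.LinePts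

open Groth.Agent.Lib.ProjSpace.Charts Groth.Agent.Lib.ProjSpace.Basic Groth.Agent.Lib.ProjSub

variable (k : Type u) [Field k]

/-- linear forms -/
def forms {m n : ℕ} (M : Fin (m + 1) → Fin (n + 1) → k) (i : Fin (m + 1)) :
    MvPolynomial (Fin (n + 1)) k := ∑ j, C (M i j) * X j

theorem forms_homogeneous {m n : ℕ} (M : Fin (m + 1) → Fin (n + 1) → k) (i : Fin (m + 1)) :
    (forms k M i).IsHomogeneous 1 :=
  IsHomogeneous.sum _ _ _ fun _ _ => (isHomogeneous_X k _).C_mul _

abbrev lin {m n : ℕ} (M : Fin (m + 1) → Fin (n + 1) → k) :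
    CohB1.polyGrading m k →+*ᵍ CohB1.polyGrading n k :=
  DisjointUnion.linHom k (forms k M) (forms_homogeneous k M)

theorem irrel_of_surjective {m n : ℕ} (φ : CohB1.polyGrading m k →+*ᵍ CohB1.polyGrading n k)
    (hφ : Function.Surjective φ) :
    (CohB1.polyGrading n k)₊ ≤ (CohB1.polyGrading m k)₊.map φ := by
  show ((CohB1.polyGrading n k)₊).toIdeal ≤ ((CohB1.polyGrading m k)₊.map φ).toIdeal
  rw [HomogeneousIdeal.toIdeal_irrelevant_le]
  intro i hi b hb
  obtain ⟨a, ha, rfl⟩ := Closed.exists_preimage_mem φ hφ hb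
  exact Ideal.mem_map_of_mem _ (HomogeneousIdeal.mem_irrelevant_of_mem _ hi ha)

theorem lin_X {m n : ℕ} (M : Fin (m + 1) → Fin (n + 1) → k) (i : Fin (m + 1)) :
    lin k M (X i) = forms k M i := MvPolynomial.aeval_X _ i

theorem lin_surjective_of_mem {m n : ℕ} (M : Fin (m + 1) → Fin (n + 1) → k)
    (N : Fin (n + 1) → Fin (m + 1) → k) (hNM : ∀ j l, ∑ i, N j i * M i l = if j = l then 1 else 0) :
    Function.Surjective (lin k M) := by
  show Function.Surjective (MvPolynomial.aeval (R := k) (forms k M))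
  rw [← AlgHom.range_eq_top, ← top_le_iff, ← MvPolynomial.adjoin_range_X, Algebra.adjoin_le_iff]
  rintro _ ⟨j, rfl⟩
  refine ⟨∑ i, C (N j i) * X i, ?_⟩
  simp only [AlgHom.toRingHom_eq_coe, RingHom.coe_coe, map_sum, map_mul, aeval_C, aeval_X, forms,
    Finset.mul_sum, algebraMap_eq]
  rw [Finset.sum_comm]
  simp_rw [← mul_assoc, ← map_mul, ← Finset.sum_mul, ← map_sum, hNM]
  simp [Finset.sum_ite_eq, apply_ite C]

/-- The change of coordinates given by a left invertible matrix. -/
def linMap {m n : ℕ} (M : Fin (m + 1) → Fin (n + 1) → k) (h : Function.Surjective (lin k M)) :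
    CohB1.ProjSpace n k ⟶ CohB1.ProjSpace m k :=
  Proj.map (lin k M) (irrel_of_surjective k _ h)

theorem linMap_toSpec {m n : ℕ} (M : Fin (m + 1) → Fin (n + 1) → k) (h : Function.Surjective (lin k M)) :
    linMap k M h ≫ CohB1.ProjSpace.toSpec m k = CohB1.ProjSpace.toSpec n k :=
  DisjointUnion.toSpec_map k _ _ _

theorem lin_comp {l m n : ℕ} (N : Fin (l + 1) → Fin (m + 1) → k) (M : Fin (m + 1) → Fin (n + 1) → k) :
    (lin k M).comp (lin k N) = lin k (fun i t => ∑ j, N i j * M j t) := by
  have key : (MvPolynomial.aeval (R := k) (forms k M)).comp (MvPolynomial.aeval (forms k N)) =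
      MvPolynomial.aeval (forms k (fun i t => ∑ j, N i j * M j t)) := by
    refine MvPolynomial.algHom_ext fun i => ?_
    simp only [AlgHom.comp_apply, aeval_X, forms, map_sum, map_mul, aeval_C, algebraMap_eq, Finset.mul_sum]
    rw [Finset.sum_comm]
    simp_rw [← mul_assoc, Finset.sum_mul]
  ext p : 1
  exact DFunLike.congr_fun key p

theorem lin_one {n : ℕ} : lin k (fun i j : Fin (n + 1) => if i = j then (1 : k) else 0) =
    GradedRingHom.id (CohB1.polyGrading n k) := by
  have key : MvPolynomial.aeval (R := k) (forms k (fun i j : Fin (n + 1) => if i = j then (1 : k) else 0)) =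
      AlgHom.id k _ := by
    refine MvPolynomial.algHom_ext fun i => ?_
    simp [forms, apply_ite C]
  ext p : 1
  exact DFunLike.congr_fun key p

theorem linMap_comp {l m n : ℕ} (N : Fin (l + 1) → Fin (m + 1) → k) (M : Fin (m + 1) → Fin (n + 1) → k)
    (hN : Function.Surjective (lin k N)) (hM : Function.Surjective (lin k M))
    (P : Fin (l + 1) → Fin (n + 1) → k) (hP : ∀ i t, ∑ j, N i j * M j t = P i t)
    (h : Function.Surjective (lin k P)) :
    linMap k M hM ≫ linMap k N hN = linMap k P h := by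
  have e : (lin k M).comp (lin k N) = lin k P := by
    rw [lin_comp]; congr; funext i t; exact hP i t
  show Proj.map _ _ ≫ Proj.map _ _ = Proj.map _ _
  rw [← Proj.map_comp]
  simp only [e]

/-- The point of `P^0`. -/
def pt0 : Spec (CommRingCat.of k) ⟶ CohB1.ProjSpace 0 k :=
  Spec.map (CommRingCat.ofHom (MvPolynomial.isEmptyAlgEquiv k (Fin 0)).toRingEquiv.toRingHom) ≫ chartι k 0

theorem pt0_toSpec : pt0 k ≫ CohB1.ProjSpace.toSpec 0 k = 𝟙 _ := by
  rw [pt0, Category.assoc, chartι_toSpec, ← Spec.map_comp, ← CommRingCat.ofHom_comp]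
  rw [← Spec.map_id]
  congr 1
  ext r
  simp
  exact MvPolynomial.coeff_zero_C r

theorem pt0_mem (x : Spec (CommRingCat.of k)) :
    pt0 k x ∈ Proj.basicOpen (CohB1.polyGrading 0 k) (X (0 : Fin 1)) := by
  rw [← opensRange_chartι]
  exact ⟨_, rfl⟩

theorem vec_surjective {n : ℕ} {v : Fin (n + 1) → k} (hv : v ≠ 0) :
    Function.Surjective (lin k (fun i (_ : Fin 1) => v i)) := by
  obtain ⟨i, hi⟩ := Function.ne_iff.1 hv
  refine lin_surjective_of_mem k _ (fun _ t => if t = i then (v i)⁻¹ else 0) fun j l => ?_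
  have e : j = l := Subsingleton.elim (α := Fin 1) j l
  subst e
  simpa using inv_mul_cancel₀ hi

/-- The rational point with homogeneous coordinates `v`. -/
def ptOf {n : ℕ} (v : Fin (n + 1) → k) (hv : v ≠ 0) : Spec (CommRingCat.of k) ⟶ CohB1.ProjSpace n k :=
  pt0 k ≫ linMap k (fun i (_ : Fin 1) => v i) (vec_surjective k hv)

theorem ptOf_toSpec {n : ℕ} (v : Fin (n + 1) → k) (hv : v ≠ 0) :
    ptOf k v hv ≫ CohB1.ProjSpace.toSpec n k = 𝟙 _ := by
  rw [ptOf, Category.assoc, linMap_toSpec, pt0_toSpec]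

theorem lin_vec_of_homogeneous {n : ℕ} (v : Fin (n + 1) → k) {f : MvPolynomial (Fin (n + 1)) k} {d : ℕ}
    (hf : f.IsHomogeneous d) :
    lin k (fun i (_ : Fin 1) => v i) f = X 0 ^ d * C (MvPolynomial.eval v f) := by
  show MvPolynomial.aeval (forms k (fun i (_ : Fin 1) => v i)) f = _
  have e : forms k (fun i (_ : Fin 1) => v i) = fun i => X 0 * C (v i) := by
    funext i; simp [forms, mul_comm]
  rw [e, MvPolynomial.aeval_def, ← MvPolynomial.coe_eval₂Hom, eval₂Hom_mul_of_isHomogeneous _ _ _ hf]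
  congr 1
  rw [algebraMap_eq]
  exact (MvPolynomial.eval₂_comp_left C (RingHom.id k) v f).symm

theorem ptOf_mem_basicOpen_iff {n : ℕ} (v : Fin (n + 1) → k) (hv : v ≠ 0)
    {f : MvPolynomial (Fin (n + 1)) k} {d : ℕ} (hd : 0 < d) (hf : f.IsHomogeneous d)
    (x : Spec (CommRingCat.of k)) :
    ptOf k v hv x ∈ Proj.basicOpen (CohB1.polyGrading n k) f ↔ MvPolynomial.eval v f ≠ 0 := by
  have h1 : ptOf k v hv x ∈ Proj.basicOpen (CohB1.polyGrading n k) f ↔
      pt0 k x ∈ Proj.basicOpen (CohB1.polyGrading 0 k) (lin k (fun i (_ : Fin 1) => v i) f) := Iff.rfl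
  rw [h1, lin_vec_of_homogeneous k v hf, Proj.basicOpen_mul, Proj.basicOpen_pow _ _ _ hd]
  refine ⟨fun h h0 => ?_, fun h => ⟨pt0_mem k x, ?_⟩⟩
  · rw [h0, map_zero, Proj.basicOpen_zero] at h
    exact h.2
  · have hmul : Proj.basicOpen (CohB1.polyGrading 0 k) (C (MvPolynomial.eval v f) * C (MvPolynomial.eval v f)⁻¹) = ⊤ := by
      rw [← map_mul, mul_inv_cancel₀ h, map_one, Proj.basicOpen_one]
    rw [Proj.basicOpen_mul] at hmul
    exact (hmul.ge (Opens.mem_top _)).1

/-- Points of projective space are determined by the forms of positive degree vanishing on them. -/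
theorem point_ext {n : ℕ} {x y : CohB1.ProjSpace n k}
    (h : ∀ (f : MvPolynomial (Fin (n + 1)) k) (d : ℕ), 0 < d → f.IsHomogeneous d →
      (x ∈ Proj.basicOpen (CohB1.polyGrading n k) f ↔ y ∈ Proj.basicOpen (CohB1.polyGrading n k) f)) :
    x = y := by
  have key : ∀ (a b : CohB1.ProjSpace n k),
      (∀ (f : MvPolynomial (Fin (n + 1)) k) (d : ℕ), 0 < d → f.IsHomogeneous d →
        (f ∉ a.asHomogeneousIdeal ↔ f ∉ b.asHomogeneousIdeal)) →
      ∀ (d : ℕ) (f : MvPolynomial (Fin (n + 1)) k), f.IsHomogeneous d → f ∈ a.asHomogeneousIdeal →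
        f ∈ b.asHomogeneousIdeal := by
    intro a b hab d f hf hfa
    rcases Nat.eq_zero_or_pos d with rfl | hd
    · obtain ⟨c, rfl⟩ : ∃ c, f = C c := ⟨_, ((homogeneousComponent_of_mem hf).trans (if_pos rfl)).symm.trans (homogeneousComponent_zero f)⟩
      by_cases hc : c = 0
      · subst hc; simp
      · exact absurd (Ideal.eq_top_of_isUnit_mem _ hfa ((IsUnit.mk0 c hc).map C)) a.isPrime.ne_top
    · by_contra hfb
      exact (hab f d hd hf).2 hfb hfa
  have h' : ∀ (f : MvPolynomial (Fin (n + 1)) k) (d : ℕ), 0 < d → f.IsHomogeneous d →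
      (f ∉ x.asHomogeneousIdeal ↔ f ∉ y.asHomogeneousIdeal) := h
  refine ProjectiveSpectrum.ext (HomogeneousIdeal.toIdeal_injective ?_)
  refine le_antisymm (fun f hf => ?_) (fun f hf => ?_) <;>
    rw [← sum_homogeneousComponent f] <;> refine Ideal.sum_mem _ fun i _ => ?_
  · refine key x y h' i _ (homogeneousComponent_isHomogeneous i f) ?_
    have := x.asHomogeneousIdeal.isHomogeneous i hf
    rwa [← decomposition.decompose'_apply] 
  · refine key y x (fun f d a b => (h' f d a b).symm) i _ (homogeneousComponent_isHomogeneous i f) ?_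
    have := y.asHomogeneousIdeal.isHomogeneous i hf
    rwa [← decomposition.decompose'_apply]

/-- Two rational points of a separated scheme over a field agree if they have the same image. -/
theorem section_ext {P : Scheme.{u}} (p : P ⟶ Spec (CommRingCat.of k)) [IsSeparated p]
    {s t : Spec (CommRingCat.of k) ⟶ P} (hs : s ≫ p = 𝟙 _) (ht : t ≫ p = 𝟙 _)
    (h : s default = t default) : s = t := by
  haveI : IsClosedImmersion (s ≫ p) := by rw [hs]; infer_instance
  haveI : IsClosedImmersion (t ≫ p) := by rw [ht]; infer_instance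
  haveI : IsClosedImmersion s := IsClosedImmersion.of_comp s p
  haveI : IsClosedImmersion t := IsClosedImmersion.of_comp t p
  have hr : Set.range s = Set.range t := by
    ext z
    constructor <;> rintro ⟨w, rfl⟩ <;> refine ⟨default, ?_⟩ <;> rw [Subsingleton.elim w default, h]
  have hker : s.ker = t.ker := by
    rw [H75.RedKer.ker_eq_vanishingIdeal, H75.RedKer.ker_eq_vanishingIdeal]
    congr 1
    exact Closeds.ext (by simp [hr])
  let l := IsClosedImmersion.lift s t hker.le
  have hl : l ≫ s = t := IsClosedImmersion.lift_fac s t hker.le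
  have hl1 : l = 𝟙 _ := by
    have h2 := congrArg (· ≫ p) hl
    simp only [Category.assoc, hs, ht, Category.comp_id] at h2
    exact h2
  rwa [hl1, Category.id_comp] at hl

theorem chart_eq_ptOf {n : ℕ} (i : Fin (n + 1)) (ψ : MvPolynomial (Fin n) k →+* k) (hψC : ψ.comp C = RingHom.id k)
    (v : Fin (n + 1) → k) (hvi : v i = 1) (hvj : ∀ j, v (i.succAbove j) = ψ (X j)) (hv : v ≠ 0) :
    Spec.map (CommRingCat.ofHom ψ) ≫ chartι k i = ptOf k v hv := by
  have hs : (Spec.map (CommRingCat.ofHom ψ) ≫ chartι k i) ≫ CohB1.ProjSpace.toSpec n k = 𝟙 _ := by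
    rw [Category.assoc, chartι_toSpec, ← Spec.map_comp, ← CommRingCat.ofHom_comp, hψC]
    exact Spec.map_id _
  refine section_ext k (CohB1.ProjSpace.toSpec n k) hs (ptOf_toSpec k v hv) (point_ext k ?_)
  intro f d hd hf
  rw [ptOf_mem_basicOpen_iff k v hv hd hf]
  show (Spec.map (CommRingCat.ofHom ψ)) default ∈ chartι k i ⁻¹ᵁ Proj.basicOpen (CohB1.polyGrading n k) f ↔ _
  have hpre : chartι k i ⁻¹ᵁ Proj.basicOpen (CohB1.polyGrading n k) f =
      (Spec.map (CommRingCat.ofHom (chartEquiv k i).symm.toRingHom)) ⁻¹ᵁ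
        (awayχ k i ⁻¹ᵁ Proj.basicOpen (CohB1.polyGrading n k) f) := rfl
  have hel : HomogeneousLocalization.Away.isLocalizationElem (𝒜 := CohB1.polyGrading n k) (X_mem_one (R := k) i) ((mem_homogeneousSubmodule d f).mpr hf) =
      fromPoly k i (dehom k i f) := by
    refine HomogeneousLocalization.val_injective _ ?_
    erw [HomogeneousLocalization.Away.val_mk]
    rw [Localization.mk_eq_mk', eq_comm, IsLocalization.eq_mk'_iff_mul_eq, mul_comm, pow_one]
    simpa using fromPoly_dehom_of_isHomogeneous i (m := d) hf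
  rw [hpre, show awayχ k i ⁻¹ᵁ Proj.basicOpen (CohB1.polyGrading n k) f = _ from
    Proj.awayι_preimage_basicOpen (CohB1.polyGrading n k) (X_mem_one i) one_pos
      ((mem_homogeneousSubmodule d f).mpr hf) hd, hel]
  have hval : ψ ((chartEquiv k i).symm (fromPoly k i (dehom k i f))) = MvPolynomial.eval v f := by
    have : (ψ.comp ((chartEquiv k i).symm.toRingHom.comp ((fromPoly k i).comp (dehom k i)))) = MvPolynomial.eval v := by
      refine MvPolynomial.ringHom_ext (fun r => ?_) (fun j => ?_)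
      · simp only [RingHom.comp_apply, dehom, eval₂Hom_C, fromPoly_C, eval_C]
        rw [show (chartEquiv k i).symm.toRingHom (constHom k i r) = C r from
          (RingEquiv.symm_apply_eq _).2 (chartEquiv_C i r).symm]
        exact RingHom.congr_fun hψC r
      · simp only [RingHom.comp_apply, eval_X]
        rcases i.eq_self_or_eq_succAbove j with rfl | ⟨t, rfl⟩
        · simp [dehom_X_self, hvi]
        · rw [dehom_X_of_ne (Fin.succAbove_ne i t), fromPoly_X,
            show (chartEquiv k i).symm.toRingHom (coord k i (i.succAbove t)) = X t from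
              (RingEquiv.symm_apply_eq _).2 (chartEquiv_X i t).symm]
          rw [hvj]
    exact RingHom.congr_fun this f
  rw [← hval]
  have e : ∀ z : PrimeSpectrum k, z.asIdeal = ⊥ := fun z =>
    (Ideal.eq_bot_or_top _).resolve_right z.isPrime.ne_top
  generalize (default : ↥(Spec (CommRingCat.of k))) = z
  have h2 : (Spec.map (CommRingCat.ofHom ψ) z ∈
      Spec.map (CommRingCat.ofHom (chartEquiv k i).symm.toRingHom) ⁻¹ᵁ
        PrimeSpectrum.basicOpen (fromPoly k i (dehom k i f))) ↔
      ψ ((chartEquiv k i).symm.toRingHom (fromPoly k i (dehom k i f))) ∉ (z : PrimeSpectrum k).asIdeal := by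
    exact (PrimeSpectrum.mem_basicOpen (R := AwayX k i) _ _).trans (Iff.of_eq (by rfl))
  exact h2.trans (not_congr (by rw [e z, Ideal.mem_bot]; rfl))


theorem exists_eq_ptOf {n : ℕ} (s : Spec (CommRingCat.of k) ⟶ CohB1.ProjSpace n k)
    (hs : s ≫ CohB1.ProjSpace.toSpec n k = 𝟙 _) :
    ∃ (v : Fin (n + 1) → k) (hv : v ≠ 0), s = ptOf k v hv := by
  obtain ⟨i, hi⟩ := exists_mem_opensRange_chartι n k (s default)
  have hrange : Set.range s ⊆ Set.range (chartι k i) := by
    rintro _ ⟨w, rfl⟩; rw [Subsingleton.elim w default]; exact hi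
  set g := IsOpenImmersion.lift (chartι k i) s hrange with hg
  have hfac : g ≫ chartι k i = s := IsOpenImmersion.lift_fac _ _ hrange
  obtain ⟨ψ, hψ⟩ : ∃ ψ : MvPolynomial (Fin n) k →+* k, g = Spec.map (CommRingCat.ofHom ψ) :=
    ⟨(Spec.preimage g).hom, (Spec.map_preimage g).symm⟩
  have hψC : ψ.comp C = RingHom.id k := by
    have := hs
    rw [← hfac, Category.assoc, chartι_toSpec, hψ, ← Spec.map_comp, ← CommRingCat.ofHom_comp,
      ← Spec.map_id] at this
    exact congrArg CommRingCat.Hom.hom (Spec.map_injective this)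
  refine ⟨i.insertNth 1 (fun j => ψ (X j)), fun h => by simpa using congrFun h i, ?_⟩
  rw [← hfac, hψ]
  exact chart_eq_ptOf k i ψ hψC _ (by simp) (fun j => by simp) _

/-- The point on which all coordinates but the `i`-th vanish. -/
def origin (i : Fin 2) : Spec (CommRingCat.of k) ⟶ CohB1.ProjSpace 1 k :=
  Spec.map (CommRingCat.ofHom (MvPolynomial.eval (fun _ : Fin 1 => (0 : k)))) ≫ chartι k i

theorem origin_toSpec (i : Fin 2) : origin k i ≫ CohB1.ProjSpace.toSpec 1 k = 𝟙 _ := by
  rw [origin, Category.assoc, chartι_toSpec, ← Spec.map_comp, ← CommRingCat.ofHom_comp]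
  rw [← Spec.map_id]
  congr 1
  ext r
  simp

theorem single_ne_zero' (i : Fin 2) : (Pi.single i (1 : k) : Fin 2 → k) ≠ 0 := fun h => by
  simpa using congrFun h i

theorem origin_eq_ptOf (i : Fin 2) : origin k i = ptOf k (Pi.single i 1) (single_ne_zero' k i) :=
  chart_eq_ptOf k i _ (by ext r; simp) _ (by simp) (fun j => by
    rw [Pi.single_eq_of_ne (Fin.succAbove_ne i j)]; simp) _

theorem origin_projMap {L : Type u} [Field L] (φ : k →+* L) (i : Fin 2) :
    origin L i ≫ ProjSpace.BaseChange.projMap 1 φ = Spec.map (CommRingCat.ofHom φ) ≫ origin k i := by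
  rw [origin, origin, Category.assoc, ProjSpace.BaseChange.chartι_comp_projMap, ← Category.assoc,
    ← Category.assoc, ← Spec.map_comp, ← Spec.map_comp]
  congr 2
  rw [← CommRingCat.ofHom_comp, ← CommRingCat.ofHom_comp]
  congr 1
  refine MvPolynomial.ringHom_ext (fun r => by simp) (fun j => by simp)

theorem origin_ne : origin k 0 default ≠ origin k 1 default := by
  intro h
  rw [origin_eq_ptOf, origin_eq_ptOf] at h
  have h0 := ptOf_mem_basicOpen_iff k (Pi.single (0 : Fin 2) (1 : k)) (single_ne_zero' k 0) one_pos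
    (isHomogeneous_X k (0 : Fin 2)) default
  have h1 := ptOf_mem_basicOpen_iff k (Pi.single (1 : Fin 2) (1 : k)) (single_ne_zero' k 1) one_pos
    (isHomogeneous_X k (0 : Fin 2)) default
  rw [h, h1] at h0
  simp at h0

theorem ptOf_smul {n : ℕ} (v : Fin (n + 1) → k) (hv : v ≠ 0) (c : k) (hc : c ≠ 0) (h : c • v ≠ 0) :
    ptOf k (c • v) h = ptOf k v hv := by
  refine section_ext k (CohB1.ProjSpace.toSpec n k) (ptOf_toSpec k _ _) (ptOf_toSpec k v hv) (point_ext k ?_)
  intro f d hd hf
  rw [ptOf_mem_basicOpen_iff k _ h hd hf, ptOf_mem_basicOpen_iff k v hv hd hf]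
  have e : MvPolynomial.eval (c • v) f = c ^ d * MvPolynomial.eval v f :=
    eval₂Hom_mul_of_isHomogeneous (RingHom.id k) c v hf
  rw [e]
  simp [hc]

theorem mat_surjective (N M : Fin 2 → Fin 2 → k) (h : ∀ j l, ∑ i, N j i * M i l = if j = l then 1 else 0) :
    Function.Surjective (lin k M) := lin_surjective_of_mem k M N h

/-- The coordinate change moving two points of the line to the origins. -/
theorem exists_aut (s t : Spec (CommRingCat.of k) ⟶ CohB1.ProjSpace 1 k)
    (hs : s ≫ CohB1.ProjSpace.toSpec 1 k = 𝟙 _) (ht : t ≫ CohB1.ProjSpace.toSpec 1 k = 𝟙 _) (hne : s ≠ t) :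
    ∃ e : CohB1.ProjSpace 1 k ≅ CohB1.ProjSpace 1 k, e.hom ≫ CohB1.ProjSpace.toSpec 1 k = CohB1.ProjSpace.toSpec 1 k ∧
      s ≫ e.hom = origin k 0 ∧ t ≫ e.hom = origin k 1 := by
  obtain ⟨v, hv, rfl⟩ := exists_eq_ptOf k s hs
  obtain ⟨w, hw, rfl⟩ := exists_eq_ptOf k t ht
  have hD : v 0 * w 1 - w 0 * v 1 ≠ 0 := by
    intro h0
    apply hne
    by_cases h : v 0 = 0
    · have hv1 : v 1 ≠ 0 := fun h1 => hv (funext fun i => by fin_cases i <;> assumption)
      have hw0 : w 0 = 0 := by
        rw [h, zero_mul, zero_sub, neg_eq_zero, mul_eq_zero] at h0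
        exact h0.resolve_right hv1
      have hw1 : w 1 ≠ 0 := fun h1 => hw (funext fun i => by fin_cases i <;> assumption)
      have e : w = (w 1 / v 1) • v := funext fun i => by
        fin_cases i <;> simp [h, hw0, div_mul_cancel₀ _ hv1]
      have := ptOf_smul k v hv (w 1 / v 1) (div_ne_zero hw1 hv1) (e ▸ hw)
      simp only [← e] at this
      exact this.symm
    · have hw0 : w 0 ≠ 0 := by
        intro h1
        rw [h1, zero_mul, sub_zero, mul_eq_zero] at h0
        exact hw (funext fun i => by fin_cases i <;> [exact h1; exact h0.resolve_left h])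
      have e : w = (w 0 / v 0) • v := funext fun i => by
        fin_cases i
        · simp [div_mul_cancel₀ _ h]
        · show w 1 = (w 0 / v 0) * v 1
          field_simp
          linear_combination h0
      have := ptOf_smul k v hv (w 0 / v 0) (div_ne_zero hw0 h) (e ▸ hw)
      simp only [← e] at this
      exact this.symm
  set D := v 0 * w 1 - w 0 * v 1 with hDdef
  let M : Fin 2 → Fin 2 → k := ![![v 0, w 0], ![v 1, w 1]]
  let N : Fin 2 → Fin 2 → k := ![![w 1 / D, -(w 0) / D], ![-(v 1) / D, v 0 / D]]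
  have hNM : ∀ j l, ∑ i, N j i * M i l = if j = l then 1 else 0 := fun j l => by
    fin_cases j <;> fin_cases l <;> simp [N, M, Fin.sum_univ_two] <;> field_simp <;> rw [hDdef] <;> ring
  have hMN : ∀ j l, ∑ i, M j i * N i l = if j = l then 1 else 0 := fun j l => by
    fin_cases j <;> fin_cases l <;> simp [N, M, Fin.sum_univ_two] <;> field_simp <;> rw [hDdef] <;> ring
  have hM := mat_surjective k N M hNM
  have hN := mat_surjective k M N hMN
  have h1 : Function.Surjective (lin k (fun i j : Fin 2 => if i = j then (1 : k) else 0)) := by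
    rw [lin_one]; exact fun x => ⟨x, rfl⟩
  have hid : linMap k (fun i j : Fin 2 => if i = j then (1 : k) else 0) h1 = 𝟙 _ := by
    unfold linMap
    simp only [lin_one]
    exact Proj.map_id
  refine ⟨⟨linMap k N hN, linMap k M hM, (linMap_comp k M N hM hN _ hMN h1).trans hid,
    (linMap_comp k N M hN hM _ hNM h1).trans hid⟩, linMap_toSpec k N hN, ?_, ?_⟩
  · rw [origin_eq_ptOf, ptOf, ptOf, Category.assoc]
    exact congrArg (pt0 k ≫ ·) (linMap_comp k N _ hN _ _ (fun i t => by
      fin_cases i <;> simp [N, Fin.sum_univ_two] <;> field_simp <;> rw [hDdef] <;> ring) _)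
  · rw [origin_eq_ptOf, ptOf, ptOf, Category.assoc]
    exact congrArg (pt0 k ≫ ·) (linMap_comp k N _ hN _ _ (fun i t => by
      fin_cases i <;> simp [N, Fin.sum_univ_two] <;> field_simp <;> rw [hDdef] <;> ring) _)

end Groth.Agent.Lib.EssDimM0.LinePts
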